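import Cfsg.Agent.Chev.ReeF4Invol.Coords
import Cfsg.Agent.ChevAut.ReeF4Out.Fix

/-!
Every involution of the unipotent subgroup of `²F₄` is conjugate to one of two elements.
-/

set_option autoImplicit false
set_option maxRecDepth 100000
set_option maxHeartbeats 1000000

namespace Cfsg.Agent.Chev

open Cfsg.Lie
open scoped MatrixGroups

universe u

namespace ReeF4Invol

open ReeF4

local notation "hD" => facts_chevF4

/-- All the coordinates. -/
def full : List ℕ := List.range 12

/-- A square. -/
def sqW (S : List ℕ) : List (ℕ × CE) := pS S 0 ++ pS S 0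

/-- Conjugation check. -/
def chkC (k : ℕ) (S rs : List ℕ) (ls : List (List (List ℕ))) : Bool :=
  chkR (cp (conjW k S)) && rdR (conjW k S) rs == ls

/-- Squaring check. -/
def chkS (S rs : List ℕ) (ls : List (List (List ℕ))) : Bool :=
  chkR (cp (sqW S)) && rdR (sqW S) rs == ls

/-- Weyl element check. -/
def chkW (ws : List (Fin 2)) (S : List ℕ) (ls : List (List (List ℕ))) : Bool :=
  (pS S 0).all (fun p => p.1 < chevF4.nroots) && chkR (cp (wmap ws (pS S 0))) &&
    rdR (wmap ws (pS S 0)) ordL == ls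

theorem c_sqAll : chkS full [28] [[[2, 3]]] = true := by decide +kernel
theorem c_sqNb : chkS [0, 2, 3, 4, 5, 6, 7, 8, 9, 10, 11] [31] [[[0, 5, 5]]] = true := by
  decide +kernel
theorem c_Ib : chkC 1 [0, 3, 4, 5, 6, 7, 8, 9, 10, 11] [24, 25, 28, 26]
    [[[0]], [], [], [[6], [0, 26]]] = true := by decide +kernel
theorem c_IB : chkC 2 [0, 4, 5, 6, 7, 8, 9, 10, 11] [24, 25, 28, 26, 31]
    [[[0]], [], [], [], [[10], [0, 29, 29]]] = true := by decide +kernel
theorem c_Isq : chkS [0, 4, 6, 7, 8, 9, 10, 11] [36, 43, 44]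
    [[[1, 15]], [[1, 1, 18]], [[14, 15], [1, 12], [8, 19]]] = true := by decide +kernel
theorem c_If : chkC 9 [0, 4, 8, 10, 11] rd [[[0]], [], [], [], [[8]], [], [], [], [[16], [8, 43]],
    [], [[20], [1, 1, 42]], [[22], [0, 43, 43]]] = true := by decide +kernel
theorem c_Id : chkC 5 [0, 4, 8, 10] rd [[[0]], [], [], [], [[8], [0, 35]], [], [], [],
    [[21, 35], [16]], [], [[20], [0, 35, 35]], []] = true := by decide +kernel
theorem c_Ie : chkC 7 [0, 4, 8] rd [[[0]], [], [], [], [[8], [1, 39]], [], [], [], [[16]], [],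
    [], []] = true := by decide +kernel
theorem c_ID : chkC 6 [0, 8] rd [[[0]], [], [], [], [], [], [], [], [[16], [1, 36]], [], [],
    []] = true := by decide +kernel
theorem c_IIsqc : chkS [2, 3, 4, 5, 6, 7, 8, 9, 10, 11] [32] [[[5, 5, 6]]] = true := by
  decide +kernel
theorem c_IIa : chkC 0 [2, 4, 5, 6, 7, 8, 9, 10, 11] [24, 25, 28, 26, 31]
    [[], [], [[4]], [], [[10], [5, 5, 24]]] = true := by decide +kernel
theorem c_IIsq : chkS [2, 4, 6, 7, 8, 9, 10, 11] [45, 44, 40]
    [[[5, 5, 9, 9]], [[14, 15], [4, 9, 9], [8, 19]], [[15, 19], [4, 21], [5, 5, 8]]] = true := by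
  decide +kernel
theorem c_IIc : chkC 3 [2, 6, 8, 9, 11] rd [[], [], [[4]], [], [], [], [[18, 31], [12]], [],
    [[4, 30, 31, 31], [23, 31], [16]], [[18], [5, 5, 30]], [],
    [[22], [18, 31, 31], [5, 5, 30, 31, 31]]] = true := by decide +kernel
theorem c_IIC : chkC 4 [2, 6, 8, 11] rd [[], [], [[4]], [], [], [], [[12], [5, 5, 32]], [],
    [[16], [4, 33, 33]], [], [], [[22], [5, 5, 33, 33]]] = true := by decide +kernel
theorem c_IIg : chkC 10 [2, 6, 11] rd [[], [], [[4]], [], [], [], [[12], [4, 45]], [], [], [], [],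
    [[22]]] = true := by decide +kernel
theorem c_IIIc : chkS [3, 4, 5, 6, 7, 8, 9, 10, 11] [36] [[[6, 7]]] = true := by decide +kernel
theorem c_IIId : chkS [4, 5, 6, 7, 8, 9, 10, 11] [40, 45]
    [[[15, 19], [10, 11]], [[10, 14]]] = true := by decide +kernel
theorem c_IIIe : chkS [4, 6, 7, 8, 9, 10, 11] [40, 44] [[[15, 19]], [[14, 15], [8, 19]]] = true := by
  decide +kernel
theorem c_Wb : chkW [1] [6, 8, 9, 10, 11] [[[19]], [[18]], [], [], [], [], [], [], [[12]],
    [[13, 13]], [], [], [], [], [], [], [[16]], [[17, 17]], [], [], [[23]], [[22]], [[21]],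
    [[20]]] = true := by decide +kernel
theorem c_Wa : chkW [0] [4, 6, 8, 10, 11] [[], [], [], [], [[8]], [[9, 9]], [], [], [], [], [], [],
    [[16]], [[17, 17]], [], [], [[12]], [[13, 13]], [[21]], [[20]], [], [], [[23]],
    [[22]]] = true := by decide +kernel
theorem c_Wba : chkW [1, 0] [6, 8, 10, 11] [[[21]], [[20]], [], [], [], [], [], [], [[16]],
    [[17, 17]], [], [], [], [], [], [], [[12]], [[13, 13]], [], [], [[23]], [[22]], [],
    []] = true := by decide +kernel
theorem c_Wab : chkW [0, 1] [6, 8, 11] [[], [], [], [], [[12]], [[13, 13]], [], [], [], [], [], [],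
    [[16]], [[17, 17]], [], [], [], [], [[23]], [[22]], [], [], [], []] = true := by decide +kernel
theorem c_Wbab : chkW [1, 0, 1] [8, 11] [[[23]], [[22]], [], [], [], [], [], [], [[16]],
    [[17, 17]], [], [], [], [], [], [], [], [], [], [], [], [], [], []] = true := by decide +kernel
theorem c_Waba : chkW [0, 1, 0] [8] [[], [], [], [], [[16]], [[17, 17]], [], [], [], [], [], [],
    [], [], [], [], [], [], [], [], [], [], [], []] = true := by decide +kernel
theorem c_Wbaba : chkW [1, 0, 1, 0] [2, 11] [[[23]], [[22]], [], [], [], [], [], [], [], [], [],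
    [], [], [], [], [], [[4]], [[5, 5]], [], [], [], [], [], []] = true := by decide +kernel

variable {K : Type u} [Field K] [CharP K 2] {m : ℕ}

/-- Support. -/
def Supp (S : List ℕ) (v : ℕ → K) : Prop := ∀ i < 12, i ∉ S → v i = 0

theorem Supp.sub {S : List ℕ} {v : ℕ → K} (h : Supp S v) (S' : List ℕ)
    (hk : ∀ i ∈ S, i ∉ S' → v i = 0) : Supp S' v := fun i hi hn => by
  by_cases hS : i ∈ S
  · exact hk i hS hn
  · exact h i hi hS

/-- A single coordinate. -/
def one (k : ℕ) (t : K) (i : ℕ) : K := if i = k then t else 0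

/-- Conjugacy in the twisted group. -/
def Rel (m : ℕ) (x y : GL chevF4.Idx K) : Prop :=
  ∃ g ∈ twistedF4 K (2 ^ m), g * x * g⁻¹ = y

theorem Rel.trans {x y z : GL chevF4.Idx K} (h : Rel m x y) (h' : Rel m y z) : Rel m x z := by
  obtain ⟨g, hg, rfl⟩ := h
  obtain ⟨g', hg', rfl⟩ := h'
  exact ⟨g' * g, mul_mem hg' hg, by group⟩

theorem Rel.symm {x y : GL chevF4.Idx K} (h : Rel m x y) : Rel m y x := by
  obtain ⟨g, hg, rfl⟩ := h
  exact ⟨g⁻¹, inv_mem hg, by group⟩

theorem Rel.sq {x y : GL chevF4.Idx K} (h : Rel m x y) (hx : x * x = 1) : y * y = 1 := by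
  obtain ⟨g, -, rfl⟩ := h
  calc g * x * g⁻¹ * (g * x * g⁻¹) = g * (x * x) * g⁻¹ := by group
    _ = 1 := by rw [hx]; group

theorem coefP_zero (r : ℕ) : coefP m (fun _ => (0 : K)) r = 0 := by
  have : ∀ x ∈ valsF m (fun _ => (0 : K)), x = 0 := by simp [valsF]
  rw [coefP, List.getD_eq_getElem?_getD]
  cases h : (valsF m (fun _ => (0 : K)))[key r]? with
  | none => rfl
  | some x => exact this x (List.mem_of_getElem? h)

theorem rdR_get {w : List (ℕ × CE)} {rs : List ℕ} {ls : List (List (List ℕ))}
    (h : rdR w rs = ls) (i : ℕ) (hi : i < rs.length) :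
    coefR (cp w) (rs.getD i 0) = ls.getD i [] := by
  subst h
  simp [rdR, List.getD_eq_getElem?_getD, List.getElem?_map, List.getElem?_eq_getElem hi]

theorem sq_get {S rs : List ℕ} {ls : List (List (List ℕ))} (h : chkS S rs ls = true) {v : ℕ → K}
    (hv : Supp S v) (h2 : P m v * P m v = 1) (i : ℕ) (hi : i < rs.length)
    (hr : rs.getD i 0 ∈ ordL) : CE.pval (env m v v) (ls.getD i []) = 0 := by
  simp only [chkS, Bool.and_eq_true, beq_iff_eq] at h
  have e : wordC hD (env m v v) (sqW S) = P m (fun _ => (0 : K)) := by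
    rw [sqW, wordC_append, wordC_pS _ hv, h2, P_zero]
  rw [← rdR_get h.2 i hi, coef_eq h.1 e _ hr, coefP_zero]

theorem conj_step [Fintype K] (hK : Fintype.card K = 2 ^ (2 * m + 1)) {k : ℕ} {S rs : List ℕ}
    {ls : List (List (List ℕ))} (h : chkC k S rs ls = true) {v : ℕ → K} (hv : Supp S v) (t : K) :
    ∃ y : ℕ → K, Rel m (P m v) (P m y) ∧ ∀ i < rs.length, rs.getD i 0 ∈ ordL →
      coefP m y (rs.getD i 0) = CE.pval (env m v (one k t)) (ls.getD i []) := by
  simp only [chkC, Bool.and_eq_true, beq_iff_eq] at h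
  have hm := isTheta hK
  have hg := P_mem hm (one k t)
  obtain ⟨y, hy⟩ := exists_P hK
    (mul_mem (mul_mem hg (P_mem hm v)) (inv_mem hg) : P m (one k t) * P m v * (P m (one k t))⁻¹ ∈ _)
  have e : wordC hD (env m v (one k t)) (conjW k S) = P m y := by
    rw [wordC_conjW (v' := one k t) k S hv (fun i _ hn => by simp [one, hn]), hy]
  refine ⟨y, ⟨_, U1_le_G1 hg, hy⟩, fun i hi hr => ?_⟩
  rw [← rdR_get h.2 i hi, coef_eq h.1 e _ hr]

theorem weyl_step {ws : List (Fin 2)} {S : List ℕ} {ls : List (List (List ℕ))}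
    (h : chkW ws S ls = true) {v y : ℕ → K} (hv : Supp S v)
    (hy : ∀ i < 24, CE.pval (env m v v) (ls.getD i []) = coefP m y (ordL.getD i 0)) :
    Rel m (P m v) (P m y) := by
  simp only [chkW, Bool.and_eq_true, beq_iff_eq, List.all_eq_true, decide_eq_true_eq] at h
  refine ⟨nW ws, nW_mem_G1 ws, ?_⟩
  have e : nW ws * P m v * (nW ws : GL chevF4.Idx K)⁻¹ =
      wordC hD (env m v v) (wmap ws (pS S 0)) := by
    rw [mul_inv_eq_iff_eq_mul, ← wordC_pS (v' := v) S hv, wordC, wordC, nW_word ws _ (by
      intro p hp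
      obtain ⟨q, hq, rfl⟩ := List.mem_map.1 hp
      exact h.1.1 q hq), wmap, List.map_map, List.map_map]
    rfl
  rw [e]
  refine eq_P_of_coef h.1.2 fun r hr => ?_
  obtain ⟨i, hi, rfl⟩ := List.mem_iff_getElem.1 hr
  have := rdR_get h.2 i hi
  rw [List.getD_eq_getElem _ _ hi] at this
  rw [this, hy i (by rw [← ordL_facts.1]; exact hi), List.getD_eq_getElem _ _ hi]

/-- The first representative. -/
noncomputable def repA (m : ℕ) : GL chevF4.Idx K := P m (one 0 1)

/-- The second representative. -/
noncomputable def repB (m : ℕ) : GL chevF4.Idx K := P m (one 2 1)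

theorem P_congr {v v' : ℕ → K} (h : ∀ i < 12, v i = v' i) : P m v = P m v' := by
  simp [P, valsF, h]

theorem P_one_zero (t : K) : P m (one 0 t) = yA m t := by
  simp [P, valsF, one, ordL, wordG, xG_zero, yA, W2, X]

theorem P_one_two (u : K) : P m (one 2 u) = yB m 0 u := by
  simp [P, valsF, one, ordL, wordG, xG_zero, yB, W4, X, pow_two, mul_assoc]

theorem exists_theta_sq [Fintype K] (hK : Fintype.card K = 2 ^ (2 * m + 1)) (s : K) :
    ∃ t : K, th K m t * th K m t = s :=
  ⟨th K m s, by rw [← pow_two, th_th (isTheta hK)]⟩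

theorem exists_theta [Fintype K] (hK : Fintype.card K = 2 ^ (2 * m + 1)) (s : K) :
    ∃ t : K, th K m t = s :=
  ⟨th K m (s * s), by rw [← pow_two, map_pow, map_pow, th_th (isTheta hK)]⟩

theorem Supp.all (v : ℕ → K) : Supp full v := fun i hi hn => absurd (List.mem_range.2 hi) hn

variable [Fintype K] (hK : Fintype.card K = 2 ^ (2 * m + 1))
include hK

theorem relA {v : ℕ → K} (hv : Supp [0] v) (h0 : v 0 ≠ 0) : Rel m (P m v) (repA m) := by
  have e : P m v = yA m (v 0) := by
    rw [← P_one_zero]
    refine P_congr fun i hi => ?_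
    by_cases h : i = 0
    · simp [one, h]
    · rw [one, if_neg h, hv i hi (by simpa using h)]
  refine ⟨tor m (1, Units.mk0 (v 0) h0), T1_le_G1 hK ⟨_, rfl⟩, ?_⟩
  rw [e, repA, P_one_zero, tor_conj_yA (isTheta hK)]
  simp [h0]

theorem relB {v : ℕ → K} (hv : Supp [2] v) (h2 : v 2 ≠ 0) : Rel m (P m v) (repB m) := by
  have e : P m v = yB m 0 (v 2) := by
    rw [← P_one_two]
    refine P_congr fun i hi => ?_
    by_cases h : i = 2
    · simp [one, h]
    · rw [one, if_neg h, hv i hi (by simpa using h)]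
  refine ⟨tor m (1, (Units.mk0 (v 2) h2)⁻¹), T1_le_G1 hK ⟨_, rfl⟩, ?_⟩
  rw [e, repB, P_one_two, tor_conj_yB (isTheta hK)]
  simp [h2]

theorem caseI {v : ℕ → K} (hv : Supp [0, 3, 4, 5, 6, 7, 8, 9, 10, 11] v)
    (h2 : P m v * P m v = 1) (h0 : v 0 ≠ 0) : Rel m (P m v) (repA m) := by
  have cr := fun y : ℕ → K => coefP_rd (m := m) y
  -- c
  obtain ⟨y, hr, hy⟩ := conj_step hK c_Ib hv (v 3 / v 0)
  have q0 := hy 0 (by decide) (by decide)
  have q1 := hy 1 (by decide) (by decide)
  have q2 := hy 2 (by decide) (by decide)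
  have q3 := hy 3 (by decide) (by decide)
  simp [CE.pval, env, one, cr] at q0 q1 q2 q3
  rw [mul_div_cancel₀ _ h0, CharTwo.add_self_eq_zero] at q3
  simp only [q1, mul_zero, zero_add] at q2
  refine hr.trans ?_
  replace h2 := hr.sq h2
  replace h0 : y 0 ≠ 0 := by rw [q0]; exact h0
  replace hv : Supp [0, 4, 5, 6, 7, 8, 9, 10, 11] y := fun i hi hn => by
    interval_cases i <;> first | exact q1 | exact q2 | exact q3 | exact absurd (by simp) hn
  clear hr hy q0 q1 q2 q3
  clear v
  rename' y => v
  -- d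
  obtain ⟨t, ht⟩ := exists_theta_sq hK (v 5 / v 0)
  obtain ⟨y, hr, hy⟩ := conj_step hK c_IB hv t
  have q0 := hy 0 (by decide) (by decide)
  have q1 := hy 1 (by decide) (by decide)
  have q2 := hy 2 (by decide) (by decide)
  have q3 := hy 3 (by decide) (by decide)
  have q5 := hy 4 (by decide) (by decide)
  simp [CE.pval, env, one, cr] at q0 q1 q2 q3 q5
  rw [ht, mul_div_cancel₀ _ h0, CharTwo.add_self_eq_zero] at q5
  simp only [q1, mul_zero, zero_add] at q2
  refine hr.trans ?_
  replace h2 := hr.sq h2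
  replace h0 : y 0 ≠ 0 := by rw [q0]; exact h0
  replace hv : Supp [0, 4, 6, 7, 8, 9, 10, 11] y := fun i hi hn => by
    interval_cases i <;>
      first | exact q1 | exact q2 | exact q3 | exact q5 | exact absurd (by simp) hn
  clear hr hy q0 q1 q2 q3 q5 ht t
  clear v
  rename' y => v
  -- e, f, D
  have s0 := sq_get c_Isq hv h2 0 (by decide) (by decide)
  have s1 := sq_get c_Isq hv h2 1 (by decide) (by decide)
  have s2 := sq_get c_Isq hv h2 2 (by decide) (by decide)
  simp [CE.pval, env, h0] at s0 s1 s2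
  simp [s0, s1, h0] at s2
  replace hv : Supp [0, 4, 8, 10, 11] v := hv.sub _ fun i hi hn => by
    simp at hi
    rcases hi with rfl | rfl | rfl | rfl | rfl | rfl | rfl | rfl <;>
      first | exact s0 | exact s1 | exact s2 | exact absurd (by simp) hn
  clear s0 s1 s2
  -- h
  obtain ⟨t, ht⟩ := exists_theta_sq hK (v 11 / v 0)
  obtain ⟨y, hr, hy⟩ := conj_step hK c_If hv t
  have q : ∀ i < 12, _ := fun i hi => hy i (by simpa [rd] using hi) (by
    interval_cases i <;> decide)
  have q0 := q 0 (by omega)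
  have q1 := q 1 (by omega)
  have q2 := q 2 (by omega)
  have q3 := q 3 (by omega)
  have q4 := q 4 (by omega)
  have q5 := q 5 (by omega)
  have q6 := q 6 (by omega)
  have q7 := q 7 (by omega)
  have q9 := q 9 (by omega)
  have qh := q 11 (by omega)
  simp [CE.pval, env, one, cr, rd] at q0 q1 q2 q3 q4 q5 q6 q7 q9 qh
  rw [ht, mul_div_cancel₀ _ h0, CharTwo.add_self_eq_zero] at qh
  simp only [q1, q3, q5, mul_zero, zero_add] at q2 q6
  refine hr.trans ?_
  replace h0 : y 0 ≠ 0 := by rw [q0]; exact h0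
  replace hv : Supp [0, 4, 8, 10] y := fun i hi hn => by
    interval_cases i <;> first | exact q1 | exact q2 | exact q3 | exact q5 | exact q6 | exact q7 | exact q9 | exact qh | exact absurd (by simp) hn
  clear hr hy q q0 q1 q2 q3 q4 q5 q6 q7 q9 qh ht t h2
  clear v
  rename' y => v
  -- g
  obtain ⟨t, ht⟩ := exists_theta_sq hK (v 10 / v 0)
  obtain ⟨y, hr, hy⟩ := conj_step hK c_Id hv t
  have q : ∀ i < 12, _ := fun i hi => hy i (by simpa [rd] using hi) (by
    interval_cases i <;> decide)
  have q0 := q 0 (by omega)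
  have q1 := q 1 (by omega)
  have q2 := q 2 (by omega)
  have q3 := q 3 (by omega)
  have q5 := q 5 (by omega)
  have q6 := q 6 (by omega)
  have q7 := q 7 (by omega)
  have q9 := q 9 (by omega)
  have qg := q 10 (by omega)
  have qh := q 11 (by omega)
  simp [CE.pval, env, one, cr, rd] at q0 q1 q2 q3 q5 q6 q7 q9 qg qh
  rw [ht, mul_div_cancel₀ _ h0, CharTwo.add_self_eq_zero] at qg
  simp only [q1, q3, q5, mul_zero, zero_add] at q2 q6
  refine hr.trans ?_
  replace h0 : y 0 ≠ 0 := by rw [q0]; exact h0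
  replace hv : Supp [0, 4, 8] y := fun i hi hn => by
    interval_cases i <;> first | exact q1 | exact q2 | exact q3 | exact q5 | exact q6 | exact q7 | exact q9 | exact qg | exact qh | exact absurd (by simp) hn
  clear hr hy q q0 q1 q2 q3 q5 q6 q7 q9 qg qh ht t
  clear v
  rename' y => v
  -- C
  have hθ0 : th K m (v 0) ≠ 0 := fun e => h0 ((map_eq_zero (th K m)).1 e)
  obtain ⟨t, ht⟩ := exists_theta hK (v 4 / th K m (v 0))
  obtain ⟨y, hr, hy⟩ := conj_step hK c_Ie hv t
  have q : ∀ i < 12, _ := fun i hi => hy i (by simpa [rd] using hi) (by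
    interval_cases i <;> decide)
  have q0 := q 0 (by omega)
  have q1 := q 1 (by omega)
  have q2 := q 2 (by omega)
  have q3 := q 3 (by omega)
  have q4 := q 4 (by omega)
  have q5 := q 5 (by omega)
  have q6 := q 6 (by omega)
  have q7 := q 7 (by omega)
  have q9 := q 9 (by omega)
  have qg := q 10 (by omega)
  have qh := q 11 (by omega)
  simp [CE.pval, env, one, cr, rd] at q0 q1 q2 q3 q4 q5 q6 q7 q9 qg qh
  rw [ht, mul_div_cancel₀ _ hθ0, CharTwo.add_self_eq_zero] at q4
  simp only [q1, q3, q5, mul_zero, zero_add] at q2 q4 q6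
  refine hr.trans ?_
  replace h0 : y 0 ≠ 0 := by rw [q0]; exact h0
  replace hv : Supp [0, 8] y := fun i hi hn => by
    interval_cases i <;> first | exact q1 | exact q2 | exact q3 | exact q4 | exact q5 | exact q6 | exact q7 | exact q9 | exact qg | exact qh | exact absurd (by simp) hn
  clear hr hy q q0 q1 q2 q3 q4 q5 q6 q7 q9 qg qh ht t hθ0
  clear v
  rename' y => v
  -- E
  have hθ0 : th K m (v 0) ≠ 0 := fun e => h0 ((map_eq_zero (th K m)).1 e)
  obtain ⟨y, hr, hy⟩ := conj_step hK c_ID hv (v 8 / th K m (v 0))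
  have q : ∀ i < 12, _ := fun i hi => hy i (by simpa [rd] using hi) (by
    interval_cases i <;> decide)
  have q0 := q 0 (by omega)
  have q1 := q 1 (by omega)
  have q2 := q 2 (by omega)
  have q3 := q 3 (by omega)
  have q4 := q 4 (by omega)
  have q5 := q 5 (by omega)
  have q6 := q 6 (by omega)
  have q7 := q 7 (by omega)
  have q8 := q 8 (by omega)
  have q9 := q 9 (by omega)
  have qg := q 10 (by omega)
  have qh := q 11 (by omega)
  simp [CE.pval, env, one, cr, rd] at q0 q1 q2 q3 q4 q5 q6 q7 q8 q9 qg qh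
  rw [mul_div_cancel₀ _ hθ0, CharTwo.add_self_eq_zero] at q8
  simp only [q1, q3, q5, q7, mul_zero, zero_add] at q2 q4 q6 q8
  refine hr.trans (relA hK (fun i hi hn => ?_) (by rw [q0]; exact h0))
  interval_cases i <;> first | exact q1 | exact q2 | exact q3 | exact q4 | exact q5 | exact q6 | exact q7 | exact q8 | exact q9 | exact qg | exact qh | exact absurd (by simp) hn

theorem caseII {v : ℕ → K} (hv : Supp [2, 3, 4, 5, 6, 7, 8, 9, 10, 11] v)
    (h2 : P m v * P m v = 1) (h0 : v 2 ≠ 0) :
    Rel m (P m v) (repA m) ∨ Rel m (P m v) (repB m) := by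
  have cr := fun y : ℕ → K => coefP_rd (m := m) y
  suffices h : ∃ y : ℕ → K, Rel m (P m v) (P m y) ∧ Supp [2, 11] y ∧ y 2 ≠ 0 by
    obtain ⟨y, hr, hs, hy2⟩ := h
    by_cases h11 : y 11 = 0
    · right
      exact hr.trans (relB hK (hs.sub _ fun i hi hn => by
        simp at hi
        rcases hi with rfl | rfl <;> first | exact h11 | exact absurd (by simp) hn) hy2)
    left
    have he : Rel m (P m y) (P m (fun i => if i = 0 then y 11 else if i = 8 then y 2 else 0)) := by
      refine weyl_step c_Wbaba hs fun i hi => ?_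
      interval_cases i <;> simp [CE.pval, env, coefP, key, ordL, valsF, List.idxOf_cons]
    refine hr.trans (he.trans (caseI hK ?_ (he.sq (hr.sq h2)) ?_))
    · intro i hi hn
      interval_cases i <;> first | rfl | exact absurd (by simp) hn
    · simpa using h11
  -- c
  have s0 := sq_get c_IIsqc hv h2 0 (by decide) (by decide)
  simp [CE.pval, env, h0] at s0
  replace hv : Supp [2, 4, 5, 6, 7, 8, 9, 10, 11] v := hv.sub _ fun i hi hn => by
    simp at hi
    rcases hi with rfl | rfl | rfl | rfl | rfl | rfl | rfl | rfl | rfl | rfl <;>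
      first | exact s0 | exact absurd (by simp) hn
  clear s0
  have hθ : th K m (v 2) * th K m (v 2) ≠ 0 := mul_ne_zero (by simpa using h0) (by simpa using h0)
  -- d
  obtain ⟨y, hr, hy⟩ := conj_step hK c_IIa hv (v 5 / (th K m (v 2) * th K m (v 2)))
  have q0 := hy 0 (by decide) (by decide)
  have q1 := hy 1 (by decide) (by decide)
  have q2 := hy 2 (by decide) (by decide)
  have q3 := hy 3 (by decide) (by decide)
  have q5 := hy 4 (by decide) (by decide)
  simp [CE.pval, env, one, cr] at q0 q1 q2 q3 q5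
  rw [← mul_assoc, mul_div_cancel₀ _ hθ, CharTwo.add_self_eq_zero] at q5
  simp only [q1, mul_zero, zero_add] at q2
  replace h2 := hr.sq h2
  replace h0 : y 2 ≠ 0 := by rw [q2]; exact h0
  replace hv : Supp [2, 4, 6, 7, 8, 9, 10, 11] y := fun i hi hn => by
    interval_cases i <;>
      first | exact q0 | exact q1 | exact q3 | exact q5 | exact absurd (by simp) hn
  obtain ⟨z, hz, hz'⟩ : ∃ z : ℕ → K, Rel m (P m y) (P m z) ∧ Supp [2, 11] z ∧ z 2 ≠ 0 := by
    clear hr hy q0 q1 q2 q3 q5 hθ
    clear v
    rename' y => v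
    have s0 := sq_get c_IIsq hv h2 0 (by decide) (by decide)
    have s1 := sq_get c_IIsq hv h2 1 (by decide) (by decide)
    have s2 := sq_get c_IIsq hv h2 2 (by decide) (by decide)
    simp [CE.pval, env, h0] at s0 s1 s2
    simp [s0] at s1 s2
    simp [s1, h0] at s2
    replace hv : Supp [2, 6, 8, 9, 11] v := hv.sub _ fun i hi hn => by
      simp at hi
      rcases hi with rfl | rfl | rfl | rfl | rfl | rfl | rfl | rfl <;>
        first | exact s0 | exact s1 | exact s2 | exact absurd (by simp) hn
    clear s0 s1 s2 h2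
    have hθ : th K m (v 2) * th K m (v 2) ≠ 0 := mul_ne_zero (by simpa using h0) (by simpa using h0)
    -- f
    obtain ⟨y, hr, hy⟩ := conj_step hK c_IIc hv (v 9 / (th K m (v 2) * th K m (v 2)))
    have q : ∀ i < 12, _ := fun i hi => hy i (by simpa [rd] using hi) (by
      interval_cases i <;> decide)
    have q0 := q 0 (by omega)
    have q1 := q 1 (by omega)
    have q2 := q 2 (by omega)
    have q3 := q 3 (by omega)
    have q4 := q 4 (by omega)
    have q5 := q 5 (by omega)
    have q7 := q 7 (by omega)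
    have q9 := q 9 (by omega)
    have qg := q 10 (by omega)
    simp [CE.pval, env, one, cr, rd] at q0 q1 q2 q3 q4 q5 q7 q9 qg
    rw [← mul_assoc, mul_div_cancel₀ _ hθ, CharTwo.add_self_eq_zero] at q9
    simp only [q1, q3, mul_zero, zero_add] at q2 q4
    replace h0 : y 2 ≠ 0 := by rw [q2]; exact h0
    replace hv : Supp [2, 6, 8, 11] y := fun i hi hn => by
      interval_cases i <;> first | exact q0 | exact q1 | exact q3 | exact q4 | exact q5 | exact q7 | exact q9 | exact qg | exact absurd (by simp) hn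
    suffices h : ∃ z : ℕ → K, Rel m (P m y) (P m z) ∧ Supp [2, 11] z ∧ z 2 ≠ 0 by
      obtain ⟨z, hz, hz'⟩ := h
      exact ⟨z, hr.trans hz, hz'⟩
    clear hr hy q q0 q1 q2 q3 q4 q5 q7 q9 qg hθ
    clear v
    rename' y => v
    -- E
    obtain ⟨t, ht⟩ := exists_theta_sq hK (v 8 / v 2)
    obtain ⟨y, hr, hy⟩ := conj_step hK c_IIC hv t
    have q : ∀ i < 12, _ := fun i hi => hy i (by simpa [rd] using hi) (by
      interval_cases i <;> decide)
    have q0 := q 0 (by omega)
    have q1 := q 1 (by omega)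
    have q2 := q 2 (by omega)
    have q3 := q 3 (by omega)
    have q4 := q 4 (by omega)
    have q5 := q 5 (by omega)
    have q7 := q 7 (by omega)
    have q8 := q 8 (by omega)
    have q9 := q 9 (by omega)
    have qg := q 10 (by omega)
    simp [CE.pval, env, one, cr, rd] at q0 q1 q2 q3 q4 q5 q7 q8 q9 qg
    rw [ht, mul_div_cancel₀ _ h0, CharTwo.add_self_eq_zero] at q8
    simp only [q1, q3, q7, mul_zero, zero_add] at q2 q4 q8
    replace h0 : y 2 ≠ 0 := by rw [q2]; exact h0
    replace hv : Supp [2, 6, 11] y := fun i hi hn => by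
      interval_cases i <;> first | exact q0 | exact q1 | exact q3 | exact q4 | exact q5 | exact q7 | exact q8 | exact q9 | exact qg | exact absurd (by simp) hn
    suffices h : ∃ z : ℕ → K, Rel m (P m y) (P m z) ∧ Supp [2, 11] z ∧ z 2 ≠ 0 by
      obtain ⟨z, hz, hz'⟩ := h
      exact ⟨z, hr.trans hz, hz'⟩
    clear hr hy q q0 q1 q2 q3 q4 q5 q7 q8 q9 qg ht t
    clear v
    rename' y => v
    -- D
    obtain ⟨t, ht⟩ := exists_theta hK (v 6 / v 2)
    obtain ⟨y, hr, hy⟩ := conj_step hK c_IIg hv t
    have q : ∀ i < 12, _ := fun i hi => hy i (by simpa [rd] using hi) (by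
      interval_cases i <;> decide)
    have q0 := q 0 (by omega)
    have q1 := q 1 (by omega)
    have q2 := q 2 (by omega)
    have q3 := q 3 (by omega)
    have q4 := q 4 (by omega)
    have q5 := q 5 (by omega)
    have q6 := q 6 (by omega)
    have q7 := q 7 (by omega)
    have q8 := q 8 (by omega)
    have q9 := q 9 (by omega)
    have qg := q 10 (by omega)
    simp [CE.pval, env, one, cr, rd] at q0 q1 q2 q3 q4 q5 q6 q7 q8 q9 qg
    rw [ht, mul_div_cancel₀ _ h0, CharTwo.add_self_eq_zero] at q6
    simp only [q1, q3, q5, q7, mul_zero, zero_add] at q2 q4 q6 q8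
    refine ⟨y, hr, fun i hi hn => ?_, by rw [q2]; exact h0⟩
    interval_cases i <;> first | exact q0 | exact q1 | exact q3 | exact q4 | exact q5 | exact q6 | exact q7 | exact q8 | exact q9 | exact qg | exact absurd (by simp) hn
  exact ⟨z, hr.trans hz, hz'⟩

theorem caseIII {v : ℕ → K} (hv : Supp [3, 4, 5, 6, 7, 8, 9, 10, 11] v)
    (h2 : P m v * P m v = 1) :
    Rel m (P m v) (repA m) ∨ Rel m (P m v) (repB m) ∨ P m v = 1 := by
  have s0 := sq_get c_IIIc hv h2 0 (by decide) (by decide)
  simp [CE.pval, env] at s0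
  replace hv : Supp [4, 5, 6, 7, 8, 9, 10, 11] v := hv.sub _ fun i hi hn => by
    simp at hi
    rcases hi with rfl | rfl | rfl | rfl | rfl | rfl | rfl | rfl | rfl <;>
      first | exact s0 | exact absurd (by simp) hn
  clear s0
  have s0 := sq_get c_IIId hv h2 0 (by decide) (by decide)
  have s1 := sq_get c_IIId hv h2 1 (by decide) (by decide)
  simp [CE.pval, env] at s0 s1
  have h5 : v 5 = 0 := by
    rcases s1 with h | h
    · exact h
    · simpa [h] using s0
  replace hv : Supp [4, 6, 7, 8, 9, 10, 11] v := hv.sub _ fun i hi hn => by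
    simp at hi
    rcases hi with rfl | rfl | rfl | rfl | rfl | rfl | rfl | rfl <;>
      first | exact h5 | exact absurd (by simp) hn
  clear s0 s1 h5
  have s0 := sq_get c_IIIe hv h2 0 (by decide) (by decide)
  have s1 := sq_get c_IIIe hv h2 1 (by decide) (by decide)
  simp [CE.pval, env] at s0 s1
  have h7 : v 7 = 0 := by
    rcases s0 with h | h
    · exact h
    · simpa [h] using s1
  have h49 : v 4 = 0 ∨ v 9 = 0 := by simpa [h7] using s1
  replace hv : Supp [4, 6, 8, 9, 10, 11] v := hv.sub _ fun i hi hn => by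
    simp at hi
    rcases hi with rfl | rfl | rfl | rfl | rfl | rfl | rfl <;>
      first | exact h7 | exact absurd (by simp) hn
  clear s0 s1 h7
  by_cases h9 : v 9 ≠ 0
  · replace hv : Supp [6, 8, 9, 10, 11] v := hv.sub _ fun i hi hn => by
      simp at hi
      rcases hi with rfl | rfl | rfl | rfl | rfl | rfl <;>
        first | exact h49.resolve_right h9 | exact absurd (by simp) hn
    have he : Rel m (P m v) (P m fun i => if i = 0 then v 9 else if i = 4 then v 6 else
        if i = 8 then v 8 else if i = 10 then v 11 else if i = 11 then v 10 else 0) := by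
      refine weyl_step c_Wb hv fun i hi => ?_
      interval_cases i <;> simp [CE.pval, env, coefP, key, ordL, valsF, List.idxOf_cons]
    refine Or.inl (he.trans (caseI hK (fun i hi hn => ?_) (he.sq h2) (by simpa using h9)))
    interval_cases i <;> first | rfl | exact absurd (by simp) hn
  rw [not_not] at h9
  by_cases h4 : v 4 ≠ 0
  · replace hv : Supp [4, 6, 8, 10, 11] v := hv.sub _ fun i hi hn => by
      simp at hi
      rcases hi with rfl | rfl | rfl | rfl | rfl | rfl <;>
        first | exact h9 | exact absurd (by simp) hn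
    have he : Rel m (P m v) (P m fun i => if i = 2 then v 4 else if i = 6 then v 8 else
        if i = 8 then v 6 else if i = 9 then v 10 else if i = 11 then v 11 else 0) := by
      refine weyl_step c_Wa hv fun i hi => ?_
      interval_cases i <;> simp [CE.pval, env, coefP, key, ordL, valsF, List.idxOf_cons]
    rcases caseII hK (v := _) (fun i hi hn => by
      interval_cases i <;> first | rfl | exact absurd (by simp) hn) (he.sq h2) (by simpa using h4) with h | h
    · exact Or.inl (he.trans h)
    · exact Or.inr (Or.inl (he.trans h))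
  rw [not_not] at h4
  replace hv : Supp [6, 8, 10, 11] v := hv.sub _ fun i hi hn => by
    simp at hi
    rcases hi with rfl | rfl | rfl | rfl | rfl | rfl <;>
      first | exact h9 | exact h4 | exact absurd (by simp) hn
  by_cases h10 : v 10 ≠ 0
  · have he : Rel m (P m v) (P m fun i => if i = 0 then v 10 else if i = 4 then v 8 else
        if i = 8 then v 6 else if i = 10 then v 11 else 0) := by
      refine weyl_step c_Wba hv fun i hi => ?_
      interval_cases i <;> simp [CE.pval, env, coefP, key, ordL, valsF, List.idxOf_cons]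
    refine Or.inl (he.trans (caseI hK (fun i hi hn => ?_) (he.sq h2) (by simpa using h10)))
    interval_cases i <;> first | rfl | exact absurd (by simp) hn
  rw [not_not] at h10
  replace hv : Supp [6, 8, 11] v := hv.sub _ fun i hi hn => by
    simp at hi
    rcases hi with rfl | rfl | rfl | rfl <;> first | exact h10 | exact absurd (by simp) hn
  by_cases h6 : v 6 ≠ 0
  · have he : Rel m (P m v) (P m fun i => if i = 2 then v 6 else if i = 6 then v 8 else
        if i = 9 then v 11 else 0) := by
      refine weyl_step c_Wab hv fun i hi => ?_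
      interval_cases i <;> simp [CE.pval, env, coefP, key, ordL, valsF, List.idxOf_cons]
    rcases caseII hK (v := _) (fun i hi hn => by
      interval_cases i <;> first | rfl | exact absurd (by simp) hn) (he.sq h2) (by simpa using h6) with h | h
    · exact Or.inl (he.trans h)
    · exact Or.inr (Or.inl (he.trans h))
  rw [not_not] at h6
  replace hv : Supp [8, 11] v := hv.sub _ fun i hi hn => by
    simp at hi
    rcases hi with rfl | rfl | rfl <;> first | exact h6 | exact absurd (by simp) hn
  by_cases h11 : v 11 ≠ 0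
  · have he : Rel m (P m v) (P m fun i => if i = 0 then v 11 else if i = 4 then v 8 else 0) := by
      refine weyl_step c_Wbab hv fun i hi => ?_
      interval_cases i <;> simp [CE.pval, env, coefP, key, ordL, valsF, List.idxOf_cons]
    refine Or.inl (he.trans (caseI hK (fun i hi hn => ?_) (he.sq h2) (by simpa using h11)))
    interval_cases i <;> first | rfl | exact absurd (by simp) hn
  rw [not_not] at h11
  replace hv : Supp [8] v := hv.sub _ fun i hi hn => by
    simp at hi
    rcases hi with rfl | rfl <;> first | exact h11 | exact absurd (by simp) hn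
  by_cases h8 : v 8 ≠ 0
  · have he : Rel m (P m v) (P m fun i => if i = 2 then v 8 else 0) := by
      refine weyl_step c_Waba hv fun i hi => ?_
      interval_cases i <;> simp [CE.pval, env, coefP, key, ordL, valsF, List.idxOf_cons]
    refine Or.inr (Or.inl (he.trans (relB hK (fun i hi hn => ?_) (by simpa using h8))))
    interval_cases i <;> first | rfl | exact absurd (by simp) hn
  rw [not_not] at h8
  refine Or.inr (Or.inr ?_)
  rw [← P_zero (K := K) (m := m)]
  refine P_congr fun i hi => ?_
  by_cases e : i = 8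
  · rw [e]; exact h8
  · exact hv i hi (by simpa using e)

/-- Involutions in the unipotent subgroup. -/
theorem classify {x : GL chevF4.Idx K} (hx : x ∈ U1 K m) (h2 : x * x = 1) (h1 : x ≠ 1) :
    Rel m x (repA m) ∨ Rel m x (repB m) := by
  obtain ⟨v, rfl⟩ := exists_P hK hx
  have hv := Supp.all v
  have s0 := sq_get c_sqAll hv h2 0 (by decide) (by decide)
  simp [CE.pval, env] at s0
  replace hv : Supp [0, 2, 3, 4, 5, 6, 7, 8, 9, 10, 11] v := fun i hi hn => by
    interval_cases i <;> first | exact s0 | exact absurd (by simp) hn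
  have s1 := sq_get c_sqNb hv h2 0 (by decide) (by decide)
  simp [CE.pval, env] at s1
  clear s0
  by_cases h0 : v 0 ≠ 0
  · exact Or.inl (caseI hK (hv.sub _ fun i hi hn => by
      simp at hi
      rcases hi with rfl | rfl | rfl | rfl | rfl | rfl | rfl | rfl | rfl | rfl | rfl <;>
        first | exact s1.resolve_left h0 | exact absurd (by simp) hn) h2 h0)
  rw [not_not] at h0
  replace hv : Supp [2, 3, 4, 5, 6, 7, 8, 9, 10, 11] v := hv.sub _ fun i hi hn => by
    simp at hi
    rcases hi with rfl | rfl | rfl | rfl | rfl | rfl | rfl | rfl | rfl | rfl | rfl <;>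
      first | exact h0 | exact absurd (by simp) hn
  by_cases hB : v 2 ≠ 0
  · exact caseII hK hv h2 hB
  rw [not_not] at hB
  rcases caseIII hK (hv.sub _ fun i hi hn => by
    simp at hi
    rcases hi with rfl | rfl | rfl | rfl | rfl | rfl | rfl | rfl | rfl | rfl <;>
      first | exact hB | exact absurd (by simp) hn) h2 with h | h | h
  · exact Or.inl h
  · exact Or.inr h
  · exact absurd h h1

end ReeF4Invol

end Cfsg.Agent.Chev
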