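import Cfsg.Agent.Chev.ReeF4Invol.Defs
import Cfsg.Agent.Chev.ReeF4.Main
import Mathlib.Algebra.CharP.Two

/-!
The twelve coordinates: values, injectivity, surjectivity onto the unipotent subgroup.
-/

set_option autoImplicit false
set_option maxRecDepth 100000
set_option maxHeartbeats 1000000

namespace Cfsg.Agent.Chev

open Cfsg.Lie
open scoped MatrixGroups

universe u

namespace ReeF4Invol

open ReeF4

local notation "hD" => facts_chevF4

/-- The word of free variables. -/
def free : List (ℕ × CE) := ordL.zipIdx.map fun p => (p.1, CE.var p.2)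

/-- Free variables collected in the natural order. -/
def natPoly : List (ℕ × List (List ℕ)) :=
  [(24, [[1]]), (25, [[3]]), (26, [[7]]), (27, [[2]]), (28, [[4], [2, 3]]), (29, [[14], [2, 7]]), (30, [[5], [2, 2, 3]]), (31, [[11], [2, 2, 7]]), (32, [[19], [5, 7], [2, 2, 3, 7]]), (33, [[0]]), (34, [[6], [0, 2]]), (35, [[10], [0, 2, 3], [0, 4]]), (36, [[0, 2, 7], [6, 7], [8], [0, 14]]), (37, [[18], [0, 2, 4], [0, 5]]), (38, [[20], [0, 11], [6, 14], [0, 2, 14]]), (39, [[22], [0, 4, 14], [0, 2, 3, 14], [10, 14], [0, 2, 4, 7], [0, 5, 7], [0, 19]]), (40, [[0, 5, 14], [0, 2, 4, 14], [12], [10, 11], [0, 2, 3, 11], [0, 4, 11], [6, 19], [0, 2, 19]]), (41, [[15], [0, 0, 2, 2, 3], [0, 0, 5]]), (42, [[6, 6, 7], [0, 0, 2, 2, 7], [9], [0, 0, 11]]), (43, [[21], [0, 0, 5, 7], [0, 0, 2, 2, 3, 7], [0, 0, 19]]), (44, [[0, 0, 2, 4, 14], [0, 4, 6, 14], [0, 2, 3, 6, 14], [0, 2, 10, 14], [6, 10, 14], [0, 0, 5, 14], [0, 5, 8], [0, 2, 4, 8], [0, 10, 11], [0, 0, 2, 3, 11], [0, 0, 4, 11],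 [16], [0, 6, 19], [0, 0, 2, 19]]), (45, [[23], [0, 0, 5, 11], [0, 0, 2, 2, 3, 11], [0, 0, 2, 2, 19], [6, 6, 19]]), (46, [[10, 10, 11], [0, 0, 2, 2, 3, 3, 11], [0, 0, 4, 4, 11], [0, 0, 5, 5, 7], [0, 0, 2, 2, 4, 4, 7], [13], [15, 19], [0, 0, 2, 2, 3, 19], [0, 0, 5, 19]]), (47, [[0, 0, 5, 14, 14], [0, 0, 2, 2, 3, 14, 14], [0, 0, 2, 2, 3, 7, 11], [0, 0, 5, 7, 11], [17], [6, 6, 7, 19], [0, 0, 2, 2, 7, 19], [9, 19], [0, 0, 11, 19]])]

theorem natPoly_eq : collPoly chevF4 keyN 200 free = natPoly := by decide +kernel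

theorem ordL_facts : ordL.length = 24 ∧ ordL.Nodup ∧ (∀ r ∈ ordL, 24 ≤ r ∧ r < chevF4.nroots) := by
  decide +kernel

theorem half_eq : half chevF4 = 24 := by decide +kernel

variable {K : Type u} [Field K] [CharP K 2] {m : ℕ}

/-- The coefficients of the twenty-four roots. -/
noncomputable def valsF (m : ℕ) (v : ℕ → K) : List K :=
  [th K m (v 0), v 0,
   th K m (v 1), v 1, th K m (v 1) * v 1 + v 2, th K m (v 2) * th K m (v 2),
   th K m (v 3), v 3, th K m (v 3) * v 3 + v 4, th K m (v 4) * th K m (v 4),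
   th K m (v 5), v 5, th K m (v 5) * v 5 + v 6, th K m (v 6) * th K m (v 6),
   th K m (v 7), v 7, th K m (v 7) * v 7 + v 8, th K m (v 8) * th K m (v 8),
   th K m (v 9), v 9, th K m (v 10), v 10, th K m (v 11), v 11]

/-- The coefficient at a root. -/
noncomputable def coefP (m : ℕ) (v : ℕ → K) (r : ℕ) : K := (valsF m v).getD (key r) 0

/-- The element with given coordinates. -/
noncomputable def P (m : ℕ) (v : ℕ → K) : GL chevF4.Idx K := wordG hD (ordL.zip (valsF m v))

/-- The values of the variables for two coordinate vectors. -/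
noncomputable def env (m : ℕ) (v v' : ℕ → K) (n : ℕ) : K :=
  if n < 24 then (if n % 2 = 0 then v (n / 2) else th K m (v (n / 2)))
  else (if n % 2 = 0 then v' ((n - 24) / 2) else th K m (v' ((n - 24) / 2)))

theorem Z_val (ρ : ℕ → K) : Z.val ρ = 0 := by simp [Z, CE.val, CharTwo.add_self_eq_zero]

theorem wordC_trim (ρ : ℕ → K) : ∀ w : List (ℕ × CE), wordC hD ρ (trim w) = wordC hD ρ w
  | [] => rfl
  | p :: w => by
    rw [trim, List.filter_cons]
    split_ifs with h
    · rw [wordC_cons, wordC_cons, ← trim, wordC_trim ρ w]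
    · have h0 : p.2.poly = [] := by simpa using h
      rw [wordC_cons, CE.val_poly, h0, ← trim, wordC_trim ρ w]
      simp [CE.pval, xG_zero]

theorem cT_val (S : List ℕ) {v v' : ℕ → K} (h : ∀ i < 12, i ∉ S → v i = 0) {i : ℕ} (hi : i < 12) :
    (cT S 0 i).val (env m v v') = v i ∧ (cS S 0 i).val (env m v v') = th K m (v i) := by
  rw [cT, cS]
  cases hS : S.contains i
  · have h0 := h i hi fun hm => by simp [hm] at hS
    simp [Z_val, h0]
  · refine ⟨?_, ?_⟩
    · simp [tv, CE.val, env, show 2 * i < 24 by omega]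
    · simp [sv, CE.val, env, show 2 * i + 1 < 24 by omega, show (2 * i + 1) / 2 = i by omega]

theorem cT_val24 (S : List ℕ) {v v' : ℕ → K} (h : ∀ i < 12, i ∉ S → v' i = 0) {i : ℕ} (hi : i < 12) :
    (cT S 24 i).val (env m v v') = v' i ∧ (cS S 24 i).val (env m v v') = th K m (v' i) := by
  rw [cT, cS]
  cases hS : S.contains i
  · have h0 := h i hi fun hm => by simp [hm] at hS
    simp [Z_val, h0]
  · refine ⟨?_, ?_⟩
    · simp [tv, CE.val, env, show ¬ 2 * i + 24 < 24 by omega, show (2 * i + 24) % 2 = 0 by omega,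
        show (2 * i + 24 - 24) / 2 = i by omega]
    · simp [sv, CE.val, env, show ¬ 2 * i + 1 + 24 < 24 by omega,
        show ¬ (2 * i + 1 + 24) % 2 = 0 by omega, show (2 * i + 1 + 24 - 24) / 2 = i by omega,
        show (2 * i + 1) / 2 = i by omega]

theorem wordC_vals (ρ : ℕ → K) (v : ℕ → K) (e e' : ℕ → CE)
    (h : ∀ i < 12, (e i).val ρ = v i ∧ (e' i).val ρ = th K m (v i)) :
    wordC hD ρ (ordL.zip (vals e e')) = P m v := by
  rw [wordC, P]
  congr 1
  simp [ordL, vals, valsF, CE.val, h]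

theorem wordC_pS (S : List ℕ) {v v' : ℕ → K} (h : ∀ i < 12, i ∉ S → v i = 0) :
    wordC hD (env m v v') (pS S 0) = P m v := by
  rw [pS, wordC_trim]
  exact wordC_vals _ _ _ _ fun i hi => cT_val S h hi

theorem wordC_pS24 (S : List ℕ) {v v' : ℕ → K} (h : ∀ i < 12, i ∉ S → v' i = 0) :
    wordC hD (env m v v') (pS S 24) = P m v' := by
  rw [pS, wordC_trim]
  exact wordC_vals _ _ _ _ fun i hi => cT_val24 S h hi

theorem wordC_reverse (ρ : ℕ → K) : ∀ w : List (ℕ × CE), wordC hD ρ w.reverse = (wordC hD ρ w)⁻¹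
  | [] => by simp [wordC, wordG]
  | p :: w => by
    have e : wordC hD ρ [p] = xG hD p.1 (p.2.val ρ) := by simp [wordC, wordG]
    rw [List.reverse_cons, wordC_append, wordC_reverse ρ w, e, wordC_cons, mul_inv_rev]
    exact congrArg _ (X_inv _ _).symm

theorem wordC_conjW (k : ℕ) (S : List ℕ) {v v' : ℕ → K} (h : ∀ i < 12, i ∉ S → v i = 0)
    (h' : ∀ i < 12, i ≠ k → v' i = 0) :
    wordC hD (env m v v') (conjW k S) = P m v' * P m v * (P m v')⁻¹ := by
  have h2 : ∀ i < 12, i ∉ [k] → v' i = 0 := fun i hi hn => h' i hi (by simpa using hn)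
  rw [conjW, wordC_append, wordC_append, pI, wordC_reverse, wordC_pS24 _ h2, wordC_pS _ h]

theorem P_eq_coef (v : ℕ → K) : P m v = wordG hD (ordL.map fun r => (r, coefP m v r)) := by
  rw [P]
  congr 1

theorem P_zero : P m (fun _ => (0 : K)) = 1 := by simp [P, valsF, ordL, wordG, xG_zero]

theorem ord_inj (a b : Fin 24 → K)
    (h : wordG hD (ordL.zip (List.ofFn a)) = wordG hD (ordL.zip (List.ofFn b))) : a = b := by
  have key : ∀ c : Fin 24 → K, wordG hD (ordL.zip (List.ofFn c)) =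
      prodFrom hD 24 fun r => (natPoly.map fun p => CE.pval (fun n => (List.ofFn c).getD n 0) p.2).getD (r - 24) 0 := by
    intro c
    have e : wordC hD (fun n => (List.ofFn c).getD n 0) free = wordG hD (ordL.zip (List.ofFn c)) := by
      simp [wordC, free, ordL, CE.val, List.ofFn_succ]
    rw [← e, wordC_collPoly hD _ keyN 200, natPoly_eq, prodFrom,
      show chevF4.nroots - 24 = 24 by decide +kernel]
    congr 1
  rw [key, key] at h
  have hh : ∀ i : ℕ, i < 24 → _ := fun i hi =>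
    prodFrom_inj hD _ _ rfl half_eq.le h (24 + i) (Nat.le_add_right _ _)
      (by rw [show chevF4.nroots = 48 by decide +kernel]; omega)
  have e0 := hh 0 (by omega)
  have e1 := hh 1 (by omega)
  have e2 := hh 2 (by omega)
  have e3 := hh 3 (by omega)
  have e4 := hh 4 (by omega)
  have e5 := hh 5 (by omega)
  have e6 := hh 6 (by omega)
  have e7 := hh 7 (by omega)
  have e8 := hh 8 (by omega)
  have e9 := hh 9 (by omega)
  have e10 := hh 10 (by omega)
  have e11 := hh 11 (by omega)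
  have e12 := hh 12 (by omega)
  have e13 := hh 13 (by omega)
  have e14 := hh 14 (by omega)
  have e15 := hh 15 (by omega)
  have e16 := hh 16 (by omega)
  have e17 := hh 17 (by omega)
  have e18 := hh 18 (by omega)
  have e19 := hh 19 (by omega)
  have e20 := hh 20 (by omega)
  have e21 := hh 21 (by omega)
  have e22 := hh 22 (by omega)
  have e23 := hh 23 (by omega)
  simp [natPoly, CE.pval, List.ofFn_succ] at e0 e1 e2 e3 e4 e5 e6 e7 e8 e9 e10 e11 e12 e13 e14 e15 e16 e17 e18 e19 e20 e21 e22 e23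
  simp only [e0, e1, e2, e3, e9] at e4 e5 e6 e7 e10
  have f4 : a 4 = b 4 := by linear_combination e4
  have f14 : a 14 = b 14 := by linear_combination e5
  have f5 : a 5 = b 5 := by linear_combination e6
  have f11 : a 11 = b 11 := by linear_combination e7
  have f6 : a 6 = b 6 := by linear_combination e10
  simp only [e0, e1, e2, e3, e9, f4, f14, f5, f11, f6] at e8 e11 e12 e13 e14 e17
  have f19 : a 19 = b 19 := by linear_combination e8
  have f10 : a 10 = b 10 := by linear_combination e11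
  have f8 : a 8 = b 8 := by linear_combination e12
  have f18 : a 18 = b 18 := by linear_combination e13
  have f20 : a 20 = b 20 := by linear_combination e14
  have f15 : a 15 = b 15 := by linear_combination e17
  simp only [e0, e1, e2, e3, e9, f4, f14, f5, f11, f6, f19, f10, f8, f18, f20, f15] at e15 e16 e18 e19 e21
  have f22 : a 22 = b 22 := by linear_combination e15
  have f12 : a 12 = b 12 := by linear_combination e16
  have f9 : a 9 = b 9 := by linear_combination e18
  have f21 : a 21 = b 21 := by linear_combination e19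
  have f23 : a 23 = b 23 := by linear_combination e21
  simp only [e0, e1, e2, e3, e9, f4, f14, f5, f11, f6, f19, f10, f8, f18, f20, f15, f22, f12, f9, f21, f23] at e20 e22 e23
  have f16 : a 16 = b 16 := by linear_combination e20
  have f13 : a 13 = b 13 := by linear_combination e22
  have f17 : a 17 = b 17 := by linear_combination e23
  funext i
  fin_cases i <;> assumption

theorem coefP_rd (v : ℕ → K) :
    coefP m v 24 = v 0 ∧ coefP m v 25 = v 1 ∧ coefP m v 28 = th K m (v 1) * v 1 + v 2 ∧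
    coefP m v 26 = v 3 ∧ coefP m v 36 = th K m (v 3) * v 3 + v 4 ∧ coefP m v 31 = v 5 ∧
    coefP m v 40 = th K m (v 5) * v 5 + v 6 ∧ coefP m v 41 = v 7 ∧
    coefP m v 44 = th K m (v 7) * v 7 + v 8 ∧ coefP m v 32 = v 9 ∧ coefP m v 43 = v 10 ∧
    coefP m v 45 = v 11 := by
  simp [coefP, key, ordL, valsF, List.idxOf_cons]

theorem coef_inj {f g : ℕ → K} (h : wordG hD (ordL.map fun r => (r, f r)) =
    wordG hD (ordL.map fun r => (r, g r))) : ∀ r ∈ ordL, f r = g r := by
  have e : ∀ f : ℕ → K, (ordL.map fun r => (r, f r)) =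
      ordL.zip (List.ofFn fun i : Fin 24 => f (ordL.getD (i : ℕ) 0)) := by
    intro f
    simp [ordL, List.ofFn_succ]
  rw [e, e] at h
  intro r hr
  obtain ⟨i, hi, rfl⟩ := List.mem_iff_getElem.1 hr
  have := congrFun (ord_inj _ _ h) ⟨i, by rw [ordL_facts.1] at hi; exact hi⟩
  simpa [List.getElem?_eq_getElem hi] using this

theorem wordG_cons (p : ℕ × K) (l : List (ℕ × K)) :
    wordG hD (p :: l) = xG hD p.1 p.2 * wordG hD l := by
  simp [wordG]

theorem wordG_coefR (ρ : ℕ → K) {R : List (ℕ × List (List ℕ))} (h : chkR R = true) :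
    wordG hD (R.map fun p => (p.1, CE.pval ρ p.2)) =
      wordG hD (ordL.map fun r => (r, CE.pval ρ (coefR R r))) := by
  have hk : R.map Prod.fst = ordL.filter fun r => (R.map Prod.fst).contains r := by
    simpa [chkR] using h
  have hnd : (R.map Prod.fst).Nodup := hk ▸ ordL_facts.2.1.filter _
  have h1 : (R.map fun p => (p.1, CE.pval ρ p.2)) =
      (R.map Prod.fst).map fun r => (r, CE.pval ρ (coefR R r)) := by
    rw [List.map_map]
    refine List.map_congr_left fun p hp => ?_
    have : R.find? (fun q => q.1 == p.1) = some p := by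
      have hne := List.inj_on_of_nodup_map hnd
      cases hf : R.find? (fun q => q.1 == p.1) with
      | none => exact absurd (List.find?_eq_none.1 hf p hp) (by simp)
      | some q =>
        have hq := List.find?_some hf
        rw [hne (List.mem_of_find?_eq_some hf) hp (by simpa using hq)]
    simp [coefR, this]
  rw [h1]
  conv_lhs => rw [hk]
  have hzero : ∀ r, (R.map Prod.fst).contains r = false → coefR R r = [] := by
    intro r hr
    rw [coefR]
    cases hf : R.find? (fun q => q.1 == r) with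
    | none => rfl
    | some q =>
      have hq := List.find?_some hf
      have : r ∈ R.map Prod.fst :=
        List.mem_map.2 ⟨q, List.mem_of_find?_eq_some hf, by simpa using hq⟩
      rw [← List.contains_iff_mem, hr] at this
      exact absurd this (by simp)
  clear hk hnd h1 h
  induction ordL with
  | nil => rfl
  | cons r l ih =>
    rw [List.filter_cons]
    cases hr : (R.map Prod.fst).contains r
    · rw [if_neg Bool.false_ne_true, List.map_cons, wordG_cons, hzero r hr, CE.pval, List.map_nil,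
        List.sum_nil, xG_zero, one_mul, ih]
    · simp only [if_true, List.map_cons, wordG_cons]
      rw [ih]

theorem coef_eq {ρ : ℕ → K} {w : List (ℕ × CE)} {v : ℕ → K} (hc : chkR (cp w) = true)
    (h : wordC hD ρ w = P m v) : ∀ r ∈ ordL, CE.pval ρ (coefR (cp w) r) = coefP m v r := by
  rw [wordC_collPoly hD _ key 200] at h
  rw [cp] at hc
  rw [wordG_coefR ρ hc, P_eq_coef] at h
  exact coef_inj h

theorem eq_P_of_coef {ρ : ℕ → K} {w : List (ℕ × CE)} {v : ℕ → K} (hc : chkR (cp w) = true)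
    (h : ∀ r ∈ ordL, CE.pval ρ (coefR (cp w) r) = coefP m v r) : wordC hD ρ w = P m v := by
  rw [wordC_collPoly hD _ key 200]
  rw [cp] at hc
  rw [wordG_coefR ρ hc, P_eq_coef]
  exact congrArg _ (List.map_congr_left fun r hr => Prod.ext rfl (h r hr))

theorem P_inj {v v' : ℕ → K} (h : P m v = P m v') : ∀ i < 12, v i = v' i := by
  have hc := coef_inj (f := coefP m v) (g := coefP m v') (by rw [← P_eq_coef, ← P_eq_coef, h])
  obtain ⟨a0, a1, a2, a3, a4, a5, a6, a7, a8, a9, a10, a11⟩ := coefP_rd (m := m) v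
  obtain ⟨b0, b1, b2, b3, b4, b5, b6, b7, b8, b9, b10, b11⟩ := coefP_rd (m := m) v'
  have c0 := a0 ▸ b0 ▸ hc 24 (by decide)
  have c1 := a1 ▸ b1 ▸ hc 25 (by decide)
  have c2 := a2 ▸ b2 ▸ hc 28 (by decide)
  have c3 := a3 ▸ b3 ▸ hc 26 (by decide)
  have c4 := a4 ▸ b4 ▸ hc 36 (by decide)
  have c5 := a5 ▸ b5 ▸ hc 31 (by decide)
  have c6 := a6 ▸ b6 ▸ hc 40 (by decide)
  have c7 := a7 ▸ b7 ▸ hc 41 (by decide)
  have c8 := a8 ▸ b8 ▸ hc 44 (by decide)
  rw [c1] at c2
  rw [c3] at c4
  rw [c5] at c6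
  rw [c7] at c8
  intro i hi
  interval_cases i
  · exact c0
  · exact c1
  · exact add_left_cancel c2
  · exact c3
  · exact add_left_cancel c4
  · exact c5
  · exact add_left_cancel c6
  · exact c7
  · exact add_left_cancel c8
  · exact a9 ▸ b9 ▸ hc 32 (by decide)
  · exact a10 ▸ b10 ▸ hc 43 (by decide)
  · exact a11 ▸ b11 ▸ hc 45 (by decide)

/-! ### Membership -/

theorem images : ([27, 25, 28, 30].map (wimg [0]) = [34, 26, 36, 42]) ∧
    ([27, 25, 28, 30].map (wimg [1, 0]) = [35, 31, 40, 46]) ∧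
    ([27, 25, 28, 30].map (wimg [0, 1, 0]) = [29, 41, 44, 47]) ∧
    ([33, 24].map (wimg [1]) = [37, 32]) ∧ ([33, 24].map (wimg [0, 1]) = [38, 43]) ∧
    ([33, 24].map (wimg [1, 0, 1]) = [39, 45]) := by
  decide +kernel

theorem nW_word (ws : List (Fin 2)) : ∀ l : List (ℕ × K), (∀ p ∈ l, p.1 < chevF4.nroots) →
    nW ws * wordG hD l = wordG hD (l.map fun p => (wimg ws p.1, p.2)) * (nW ws : GL chevF4.Idx K)
  | [], _ => by simp [wordG]
  | p :: l, h => by
    have hval : ∀ (w : List (Fin chevF4.rank)) (r : Fin chevF4.nroots),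
        (pWord facts_chevF4.{u} w r : ℕ) = w.foldr (fun i s => chevF4.reflectRoot i s) (r : ℕ) := by
      intro w r
      induction w with
      | nil => rfl
      | cons i w ih => rw [pWord_cons, Equiv.Perm.mul_apply, wPerm_val, ih]; rfl
    rw [List.map_cons, wordG_cons, wordG_cons, ← mul_assoc]
    have e := nWord_x (K := K) (flat ws) ⟨p.1, h p (List.mem_cons_self ..)⟩ p.2
    rw [hval] at e
    show nWord hD (flat ws) * xG hD p.1 p.2 * _ = _
    rw [e, mul_assoc]
    exact (congrArg _ (nW_word ws l fun q hq => h q (List.mem_cons_of_mem _ hq))).trans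
      (mul_assoc _ _ _).symm

theorem pieces (v : ℕ → K) : P m v =
    yA m (v 0) * yB m (v 1) (v 2) *
      (nW [0] * yB m (v 3) (v 4) * (nW [0] : GL chevF4.Idx K)⁻¹) *
      (nW [1, 0] * yB m (v 5) (v 6) * (nW [1, 0] : GL chevF4.Idx K)⁻¹) *
      (nW [0, 1, 0] * yB m (v 7) (v 8) * (nW [0, 1, 0] : GL chevF4.Idx K)⁻¹) *
      (nW [1] * yA m (v 9) * (nW [1] : GL chevF4.Idx K)⁻¹) *
      (nW [0, 1] * yA m (v 10) * (nW [0, 1] : GL chevF4.Idx K)⁻¹) *
      (nW [1, 0, 1] * yA m (v 11) * (nW [1, 0, 1] : GL chevF4.Idx K)⁻¹) := by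
  have hA : ∀ t : K, yA m t = wordG hD [(33, th K m t), (24, t)] := fun t => by
    simp [yA, W2, wordG, X]
  have hB : ∀ t u : K, yB m t u = wordG hD [(27, th K m t), (25, t), (28, th K m t * t + u),
      (30, th K m u * th K m u)] := fun t u => by
    simp [yB, W4, wordG, X, pow_two, mul_assoc]
  have cA : ∀ (ws : List (Fin 2)) (t : K) (r r' : ℕ), [33, 24].map (wimg ws) = [r, r'] →
      nW ws * yA m t * (nW ws : GL chevF4.Idx K)⁻¹ = wordG hD [(r, th K m t), (r', t)] := by
    intro ws t r r' e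
    rw [mul_inv_eq_iff_eq_mul, hA, nW_word ws _ (by
      intro p hp
      simp only [List.mem_cons, List.not_mem_nil, or_false] at hp
      rcases hp with rfl | rfl <;> exact (by decide +kernel : ∀ r ∈ [33, 24],
        r < chevF4.nroots) _ (by simp))]
    simp only [List.map_cons, List.map_nil, List.cons.injEq] at e
    simp [e.1, e.2.1]
  have cB : ∀ (ws : List (Fin 2)) (t u : K) (r₁ r₂ r₃ r₄ : ℕ),
      [27, 25, 28, 30].map (wimg ws) = [r₁, r₂, r₃, r₄] →
      nW ws * yB m t u * (nW ws : GL chevF4.Idx K)⁻¹ =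
        wordG hD [(r₁, th K m t), (r₂, t), (r₃, th K m t * t + u), (r₄, th K m u * th K m u)] := by
    intro ws t u r₁ r₂ r₃ r₄ e
    rw [mul_inv_eq_iff_eq_mul, hB, nW_word ws _ (by
      intro p hp
      simp only [List.mem_cons, List.not_mem_nil, or_false] at hp
      rcases hp with rfl | rfl | rfl | rfl <;> exact (by decide +kernel : ∀ r ∈ [27, 25, 28, 30],
        r < chevF4.nroots) _ (by simp))]
    simp only [List.map_cons, List.map_nil, List.cons.injEq] at e
    simp [e.1, e.2.1, e.2.2.1, e.2.2.2.1]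
  obtain ⟨i1, i2, i3, i4, i5, i6⟩ := images
  rw [hA (v 0), hB (v 1) (v 2), cB _ _ _ _ _ _ _ i1, cB _ _ _ _ _ _ _ i2, cB _ _ _ _ _ _ _ i3,
    cA _ _ _ _ i4, cA _ _ _ _ i5, cA _ _ _ _ i6]
  simp [P, valsF, ordL, wordG, mul_assoc]

theorem P_mem (hm : IsTheta K m) (v : ℕ → K) : P m v ∈ U1 K m := by
  refine ⟨?_, ?_⟩
  · rw [posUnipotent_eq hD, half_eq]
    refine wordG_mem hD fun p hp => ?_
    obtain ⟨h1, h2⟩ := ordL_facts.2.2 p.1 (List.of_mem_zip hp).1
    exact Subgroup.subset_closure ⟨p.1, p.2, h1, h2, rfl⟩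
  · rw [pieces]
    have hA : ∀ (ws : List (Fin 2)) (t : K),
        nW ws * yA m t * (nW ws : GL chevF4.Idx K)⁻¹ ∈ fx m := fun ws t =>
      mul_mem (mul_mem (nW_mem_fx ws) (yA_mem_fx hm t)) (inv_mem (nW_mem_fx ws))
    have hB : ∀ (ws : List (Fin 2)) (t u : K),
        nW ws * yB m t u * (nW ws : GL chevF4.Idx K)⁻¹ ∈ fx m := fun ws t u =>
      mul_mem (mul_mem (nW_mem_fx ws) (yB_mem_fx hm t u)) (inv_mem (nW_mem_fx ws))
    exact mul_mem (mul_mem (mul_mem (mul_mem (mul_mem (mul_mem (mul_mem (yA_mem_fx hm _)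
      (yB_mem_fx hm _ _)) (hB ..)) (hB ..)) (hB ..)) (hA ..)) (hA ..)) (hA ..)

/-- Extend a vector by zeros. -/
def vec (f : Fin 12 → K) (i : ℕ) : K := if h : i < 12 then f ⟨i, h⟩ else 0

theorem exists_P [Fintype K] (hK : Fintype.card K = 2 ^ (2 * m + 1)) {g : GL chevF4.Idx K}
    (hg : g ∈ U1 K m) : ∃ v : ℕ → K, g = P m v := by
  classical
  let f : (Fin 12 → K) → ↥(U1 K m) := fun c => ⟨P m (vec c), P_mem (isTheta hK) _⟩
  have hf : Function.Injective f := fun c d e => funext fun i => by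
    simpa [vec] using P_inj (congrArg Subtype.val e) i i.2
  have hb := hf.bijective_of_nat_card_le (by
    rw [card_U1 hK, Nat.card_eq_fintype_card, Fintype.card_fun, Fintype.card_fin])
  obtain ⟨c, hc⟩ := hb.2 ⟨g, hg⟩
  exact ⟨vec c, (congrArg Subtype.val hc).symm⟩

end ReeF4Invol

end Cfsg.Agent.Chev
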