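import Cfsg.Agent.Chev.ReeF4Invol.Distinct
import Cfsg.Agent.ChevAut.ReeF4Out.Norm

/-!
Two classes of involutions in `²F₄`, and in a subgroup of index two containing all involutions.
-/

set_option autoImplicit false
set_option maxRecDepth 100000
set_option maxHeartbeats 1000000

namespace Cfsg.Agent.Chev

open Cfsg.Lie
open scoped MatrixGroups Pointwise

universe u

namespace ReeF4Invol

open ReeF4

local notation "hD" => facts_chevF4

theorem c_cent_dh' : chkComm [5, 6] [11] = true := by decide +kernel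

variable {K : Type u} [Field K] [CharP K 2] {m : ℕ}

theorem yA_sq (t : K) : yA m t * yA m t = 1 := by
  rw [yA, W2_mul, CharTwo.add_self_eq_zero, CharTwo.add_self_eq_zero, W2_zero]

theorem yB_sq (u : K) : yB m 0 u * yB m 0 u = 1 := by
  rw [yB, W4_mul]
  simp [W4_zero, CharTwo.add_self_eq_zero]

theorem yB_split (t u : K) : yB m t u = yB m t 0 * yB m 0 u := by
  simp [yB, W4_mul]

theorem P_one_ne {j : ℕ} (hj : j < 12) : P m (one j (1 : K)) ≠ 1 := by
  rw [← P_zero (K := K) (m := m)]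
  intro h
  simpa [one] using P_inj h j hj

variable [Fintype K] (hK : Fintype.card K = 2 ^ (2 * m + 1))

/-- An element of the group. -/
noncomputable def el (v : ℕ → K) : ↥(twistedF4 K (2 ^ m)) :=
  ⟨P m v, U1_le_G1 (P_mem (isTheta hK) v)⟩

include hK

theorem rel_iff {x y : ↥(twistedF4 K (2 ^ m))} :
    Rel m (x : GL chevF4.Idx K) (y : GL chevF4.Idx K) ↔ IsConj x y := by
  rw [isConj_iff]
  exact ⟨fun ⟨g, hg, e⟩ => ⟨⟨g, hg⟩, Subtype.ext e⟩,
    fun ⟨c, e⟩ => ⟨c, c.2, congrArg Subtype.val e⟩⟩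

theorem el_order {j : ℕ} (hj : j = 8 ∨ j = 11) : orderOf (el hK (one j (1 : K))) = 2 := by
  haveI := Fact.mk Nat.prime_two
  refine orderOf_eq_prime (Subtype.ext ?_) fun h => P_one_ne (m := m) (K := K) (j := j) (by omega)
    (congrArg Subtype.val h)
  rw [SubgroupClass.coe_pow, pow_two, OneMemClass.coe_one]
  show P m (one j 1) * P m (one j 1) = 1
  rcases hj with rfl | rfl
  · refine (relE_repB (K := K)).symm.sq ?_
    rw [repB, P_one_two, yB_sq]
  · refine (relH_repA (K := K)).symm.sq ?_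
    rw [repA, P_one_zero, yA_sq]

theorem exists_conj_U1 {x : ↥(twistedF4 K (2 ^ m))} (hx : orderOf x = 2) :
    ∃ g : ↥(twistedF4 K (2 ^ m)), ((g * x * g⁻¹ : ↥(twistedF4 K (2 ^ m))) :
      GL chevF4.Idx K) ∈ U1 K m := by
  haveI := Fact.mk Nat.prime_two
  obtain ⟨P, hP⟩ := exists_sylow hK
  have hZ : IsPGroup 2 ↥(Subgroup.zpowers x) :=
    IsPGroup.of_card (n := 1) (by rw [Nat.card_zpowers, hx, pow_one])
  obtain ⟨Q, hQ⟩ := hZ.exists_le_sylow
  obtain ⟨g, hg⟩ := MulAction.exists_smul_eq ↥(twistedF4 K (2 ^ m)) Q P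
  refine ⟨g, Subgroup.mem_subgroupOf.1 (hP ▸ ?_)⟩
  rw [← hg, Sylow.coe_subgroup_smul]
  exact ⟨x, hQ (Subgroup.mem_zpowers x), rfl⟩

theorem classify_el {x : ↥(twistedF4 K (2 ^ m))} (hx : orderOf x = 2) :
    IsConj x (el hK (one 8 1)) ∨ IsConj x (el hK (one 11 1)) := by
  obtain ⟨g, hg⟩ := exists_conj_U1 hK hx
  have hr : Rel m (x : GL chevF4.Idx K) ((g * x * g⁻¹ : ↥(twistedF4 K (2 ^ m))) :
      GL chevF4.Idx K) := ⟨g, g.2, rfl⟩
  obtain ⟨h2, h1⟩ := orderOf_eq_prime_iff.1 hx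
  have h2' : (x : GL chevF4.Idx K) * (x : GL chevF4.Idx K) = 1 := by
    have := congrArg Subtype.val h2
    simpa [pow_two] using this
  have h1' : ((g * x * g⁻¹ : ↥(twistedF4 K (2 ^ m))) : GL chevF4.Idx K) ≠ 1 := fun e => h1 (by
    have e' : g * x * g⁻¹ = 1 := Subtype.ext e
    rwa [conj_eq_one_iff] at e')
  rcases classify hK hg (hr.sq h2') h1' with h | h
  · exact Or.inr ((rel_iff hK).1 (hr.trans (h.trans relH_repA.symm)))
  · exact Or.inl ((rel_iff hK).1 (hr.trans (h.trans relE_repB.symm)))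

theorem not_conj_el : ¬ IsConj (el hK (one 8 (1 : K))) (el hK (one 11 1)) := by
  intro h
  have h' := (rel_iff hK).2 h
  rw [el, el] at h'
  exact not_rel_EH hK h'

/-- Two classes of involutions. -/
theorem count : (ConjClasses.mk '' {g : ↥(twistedF4 K (2 ^ m)) | orderOf g = 2}).ncard = 2 := by
  have e : ConjClasses.mk '' {g : ↥(twistedF4 K (2 ^ m)) | orderOf g = 2} =
      {ConjClasses.mk (el hK (one 8 1)), ConjClasses.mk (el hK (one 11 1))} := by
    ext c
    constructor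
    · rintro ⟨x, hx, rfl⟩
      rcases classify_el hK hx with h | h
      · exact Or.inl (ConjClasses.mk_eq_mk_iff_isConj.2 h)
      · exact Or.inr (ConjClasses.mk_eq_mk_iff_isConj.2 h)
    · rintro (rfl | rfl)
      · exact ⟨_, el_order hK (Or.inl rfl), rfl⟩
      · exact ⟨_, el_order hK (Or.inr rfl), rfl⟩
  rw [e, Set.ncard_pair]
  exact fun h => not_conj_el hK (ConjClasses.mk_eq_mk_iff_isConj.1 h)

omit hK [Fintype K] in
theorem pieceD (t u : K) : P m (fun i => if i = 5 then t else if i = 6 then u else 0) =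
    nW [1, 0] * yB m t u * (nW [1, 0] : GL chevF4.Idx K)⁻¹ := by
  rw [pieces]
  simp [yA_zero', yB_zero']

/-- An element outside a subgroup of index two commuting with both representatives. -/
theorem exists_outside {D : Subgroup ↥(twistedF4 K (2 ^ m))} (hidx : D.index = 2)
    (hinv : ∀ g, orderOf g = 2 → g ∈ D) :
    ∃ c ∉ D, ∀ j, j = 8 ∨ j = 11 → c * el hK (one j (1 : K)) = el hK (one j 1) * c := by
  haveI := Fact.mk Nat.prime_two
  haveI hN : D.Normal := Subgroup.normal_of_index_eq_two hidx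
  by_contra hc
  push Not at hc
  have hm := isTheta hK
  have sq1 : ∀ g : ↥(twistedF4 K (2 ^ m)), g * g = 1 → g ∈ D := fun g hg => by
    by_cases h : g = 1
    · rw [h]; exact D.one_mem
    · exact hinv g (orderOf_eq_prime (by rwa [pow_two]) h)
  -- the two fundamental pieces lie in `D`
  set D' : Subgroup (GL chevF4.Idx K) := D.map (twistedF4 K (2 ^ m)).subtype with hdd
  have memD : ∀ {g : GL chevF4.Idx K} (hg : g ∈ twistedF4 K (2 ^ m)),
      (⟨g, hg⟩ : ↥(twistedF4 K (2 ^ m))) ∈ D → g ∈ D' := fun hg h => ⟨_, h, rfl⟩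
  have conjD : ∀ {g : GL chevF4.Idx K} (ws : List (Fin 2)), g ∈ D' →
      nW ws * g * (nW ws : GL chevF4.Idx K)⁻¹ ∈ D' := by
    rintro g ws ⟨z, hz, rfl⟩
    exact ⟨_, hN.conj_mem z hz ⟨nW ws, nW_mem_G1 ws⟩, rfl⟩
  have yA_G : ∀ t : K, yA m t ∈ twistedF4 K (2 ^ m) := fun t => by
    rw [← P_one_zero]; exact U1_le_G1 (P_mem hm _)
  have yB_G : ∀ t u : K, yB m t u ∈ twistedF4 K (2 ^ m) := fun t u =>
    U1_le_G1 (fm_le_U1 _ (yB_mem_fm hm t u))
  have hA : ∀ t : K, yA m t ∈ D' := fun t =>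
    memD (yA_G t) (sq1 _ (Subtype.ext (yA_sq t)))
  have hB0 : ∀ u : K, yB m 0 u ∈ D' := fun u =>
    memD (yB_G 0 u) (sq1 _ (Subtype.ext (yB_sq u)))
  have hB : ∀ t u : K, yB m t u ∈ D' := by
    intro t u
    set v : ℕ → K := fun i => if i = 5 then t else if i = 6 then u else 0 with hv
    have hs : Supp [5, 6] v := fun i _ hn => by
      simp only [List.mem_cons, List.not_mem_nil, or_false, not_or] at hn
      simp [hv, hn.1, hn.2]
    have hd : el hK v ∈ D := by
      by_contra h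
      obtain ⟨j, hj, hne⟩ := hc _ h
      refine hne (Subtype.ext ?_)
      rcases hj with rfl | rfl
      · exact E_central hK (P_mem hm v) 1
      · exact P_comm hK c_cent_dh' hs (one_supp 11 1)
    have h2 : P m v ∈ D' := ⟨_, hd, rfl⟩
    rw [hv, pieceD] at h2
    have h3 : yB m t u = (nW [1, 0] : GL chevF4.Idx K)⁻¹ *
        (nW [1, 0] * yB m t u * (nW [1, 0] : GL chevF4.Idx K)⁻¹) * nW [1, 0] := by group
    rw [h3]
    obtain ⟨z, hz, hz'⟩ := h2
    refine ⟨_, hN.conj_mem' z hz ⟨nW [1, 0], nW_mem_G1 _⟩, ?_⟩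
    rw [← hz']
    rfl
  have hU : (U1 K m).subgroupOf (twistedF4 K (2 ^ m)) ≤ D := by
    rintro ⟨g, hg⟩ hgU
    obtain ⟨v, rfl⟩ := exists_P hK (Subgroup.mem_subgroupOf.1 hgU)
    have : P m v ∈ D' := by
      rw [pieces]
      exact mul_mem (mul_mem (mul_mem (mul_mem (mul_mem (mul_mem (mul_mem (hA _)
        (hB _ _)) (conjD _ (hB _ _))) (conjD _ (hB _ _))) (conjD _ (hB _ _)))
        (conjD _ (hA _))) (conjD _ (hA _))) (conjD _ (hA _))
    obtain ⟨z, hz, hz'⟩ := this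
    rwa [show (⟨P m v, hg⟩ : ↥(twistedF4 K (2 ^ m))) = z from Subtype.ext hz'.symm]
  obtain ⟨P, hP⟩ := exists_sylow hK
  have := Subgroup.index_dvd_of_le hU
  rw [hidx, ← hP] at this
  exact P.not_dvd_index this

/-- Two classes of involutions in a subgroup of index two containing all of them. -/
theorem count_index_two {D : Subgroup ↥(twistedF4 K (2 ^ m))} (hidx : D.index = 2)
    (hinv : ∀ g, orderOf g = 2 → g ∈ D) :
    (ConjClasses.mk '' {g : D | orderOf g = 2}).ncard = 2 := by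
  obtain ⟨c, hc, hcomm⟩ := exists_outside hK hidx hinv
  have low : ∀ j, j = 8 ∨ j = 11 → ∀ hj : el hK (one j (1 : K)) ∈ D, ∀ x : D,
      IsConj (x : ↥(twistedF4 K (2 ^ m))) (el hK (one j 1)) → IsConj x ⟨_, hj⟩ := by
    intro j hj' hj x h
    obtain ⟨g, hg⟩ := isConj_iff.1 h
    rw [isConj_iff]
    by_cases hgD : g ∈ D
    · exact ⟨⟨g, hgD⟩, Subtype.ext hg⟩
    · refine ⟨⟨c * g, (Subgroup.mul_mem_iff_of_index_two hidx).2 (iff_of_false hc hgD)⟩,
        Subtype.ext ?_⟩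
      show c * g * (x : ↥(twistedF4 K (2 ^ m))) * (c * g)⁻¹ = el hK (one j 1)
      calc c * g * (x : ↥(twistedF4 K (2 ^ m))) * (c * g)⁻¹
          = c * (g * (x : ↥(twistedF4 K (2 ^ m))) * g⁻¹) * c⁻¹ := by group
        _ = _ := by rw [hg, hcomm j hj']; group
  have hE : el hK (one 8 (1 : K)) ∈ D := hinv _ (el_order hK (Or.inl rfl))
  have hH : el hK (one 11 (1 : K)) ∈ D := hinv _ (el_order hK (Or.inr rfl))
  have e : ConjClasses.mk '' {g : D | orderOf g = 2} =
      {ConjClasses.mk (⟨_, hE⟩ : D), ConjClasses.mk ⟨_, hH⟩} := by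
    ext z
    constructor
    · rintro ⟨x, hx, rfl⟩
      rcases classify_el hK (x := (x : ↥(twistedF4 K (2 ^ m))))
        (by rw [Subgroup.orderOf_coe]; exact hx) with h | h
      · exact Or.inl (ConjClasses.mk_eq_mk_iff_isConj.2 (low 8 (Or.inl rfl) hE x h))
      · exact Or.inr (ConjClasses.mk_eq_mk_iff_isConj.2 (low 11 (Or.inr rfl) hH x h))
    · rintro (rfl | rfl)
      · exact ⟨_, by simpa using el_order hK (Or.inl rfl), rfl⟩
      · exact ⟨_, by simpa using el_order hK (Or.inr rfl), rfl⟩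
  rw [e, Set.ncard_pair]
  intro h
  obtain ⟨g, hg⟩ := isConj_iff.1 (ConjClasses.mk_eq_mk_iff_isConj.1 h)
  exact not_conj_el hK (isConj_iff.2 ⟨g, congrArg Subtype.val hg⟩)

end ReeF4Invol

end Cfsg.Agent.Chev
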