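import Cfsg.Agent.Chev.Collect
import Cfsg.Agent.Chev.ReeF4.Group

/-!
Twelve coordinates on the unipotent subgroup of `²F₄`, as symbolic words for collection.

Coordinate `i` is read at the root `rd i`; the indices are
`a b B c C d D e E f g h` in this order.
-/

set_option autoImplicit false
set_option maxRecDepth 100000

namespace Cfsg.Agent.Chev

open Cfsg.Lie

universe u

namespace ReeF4Invol

/-- The roots in the order of collection: eight twisted root groups. -/
def ordL : List ℕ :=
  [33, 24, 27, 25, 28, 30, 34, 26, 36, 42, 35, 31, 40, 46, 29, 41, 44, 47, 37, 32, 38, 43, 39, 45]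

/-- The rank of a root in that order. -/
def key (r : ℕ) : ℕ := ordL.idxOf r

/-- The natural rank. -/
def keyN (r : ℕ) : ℕ := r

/-- Twice a variable: zero. -/
def Z : CE := .add .one .one

/-- The coordinate variable. -/
def tv (off i : ℕ) : CE := .var (2 * i + off)

/-- Its image under the twist. -/
def sv (off i : ℕ) : CE := .var (2 * i + 1 + off)

/-- A coordinate, zero outside `S`. -/
def cT (S : List ℕ) (off i : ℕ) : CE := bif S.contains i then tv off i else Z

/-- Its image under the twist, zero outside `S`. -/
def cS (S : List ℕ) (off i : ℕ) : CE := bif S.contains i then sv off i else Z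

/-- The values of the twenty-four roots. -/
def vals (e e' : ℕ → CE) : List CE :=
  [e' 0, e 0,
   e' 1, e 1, .add (.mul (e' 1) (e 1)) (e 2), .mul (e' 2) (e' 2),
   e' 3, e 3, .add (.mul (e' 3) (e 3)) (e 4), .mul (e' 4) (e' 4),
   e' 5, e 5, .add (.mul (e' 5) (e 5)) (e 6), .mul (e' 6) (e' 6),
   e' 7, e 7, .add (.mul (e' 7) (e 7)) (e 8), .mul (e' 8) (e' 8),
   e' 9, e 9, e' 10, e 10, e' 11, e 11]

/-- Remove the letters with vanishing coefficient. -/
def trim (w : List (ℕ × CE)) : List (ℕ × CE) := w.filter fun p => !p.2.poly.isEmpty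

/-- The word of an element with the coordinates in `S`. -/
def pS (S : List ℕ) (off : ℕ) : List (ℕ × CE) := trim (ordL.zip (vals (cT S off) (cS S off)))

/-- The inverse word. -/
def pI (S : List ℕ) (off : ℕ) : List (ℕ × CE) := (pS S off).reverse

/-- The coefficient of a root in a collected word. -/
def coefR (R : List (ℕ × List (List ℕ))) (r : ℕ) : List (List ℕ) :=
  ((R.find? fun p => p.1 == r).map Prod.snd).getD []

/-- The roots of a collected word appear in their order. -/
def chkR (R : List (ℕ × List (List ℕ))) : Bool :=
  R.map Prod.fst == ordL.filter fun r => (R.map Prod.fst).contains r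

/-- The collected product. -/
def cp (w : List (ℕ × CE)) : List (ℕ × List (List ℕ)) := collPoly chevF4 key 200 w

/-- Read a list of coefficients after collecting. -/
def rdR (w : List (ℕ × CE)) (rs : List ℕ) : List (List (List ℕ)) := rs.map (coefR (cp w))

/-- The roots carrying the coordinates. -/
def rd : List ℕ := [24, 25, 28, 26, 36, 31, 40, 41, 44, 32, 43, 45]

/-- The word of the twisted Weyl element. -/
def wimg (ws : List (Fin 2)) (r : ℕ) : ℕ :=
  (ReeF4.flat ws).foldr (fun i s => chevF4.reflectRoot i s) r

/-- The image of a word. -/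
def wmap (ws : List (Fin 2)) (w : List (ℕ × CE)) : List (ℕ × CE) :=
  w.map fun p => (wimg ws p.1, p.2)

/-- A product equal to a conjugate. -/
def conjW (k : ℕ) (S : List ℕ) : List (ℕ × CE) := pS [k] 24 ++ pS S 0 ++ pI [k] 24

end ReeF4Invol

end Cfsg.Agent.Chev
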