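import Cfsg.Agent.Chev.ReeF4Invol.Classes

/-!
The two representatives are not conjugate.
-/

set_option autoImplicit false
set_option maxRecDepth 100000
set_option maxHeartbeats 1000000

namespace Cfsg.Agent.Chev

open Cfsg.Lie
open scoped MatrixGroups

universe u

namespace ReeF4Invol

open ReeF4

local notation "hD" => facts_chevF4

/-- Two collected products have the same coefficients up to the order of the monomials. -/
def chkComm (S S' : List ℕ) : Bool :=
  chkR (cp (pS S 0 ++ pS S' 24)) && chkR (cp (pS S' 24 ++ pS S 0)) &&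
    ordL.all fun r => (coefR (cp (pS S 0 ++ pS S' 24)) r).isPerm
      (coefR (cp (pS S' 24 ++ pS S 0)) r)

theorem c_cent_e : chkComm full [8] = true := by decide +kernel

theorem c_cent_dh : chkComm [5] [11] = true := by decide +kernel

/-- Product check. -/
def chkM (S S' rs : List ℕ) (swap : Bool) (ls : List (List (List ℕ))) : Bool :=
  let w := if swap then pS S' 24 ++ pS S 0 else pS S 0 ++ pS S' 24
  chkR (cp w) && rdR w rs == ls

theorem c_Hu : chkM full [11] [28, 45] true [[[4], [2, 3]], [[22], [46]]] = true := by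
  decide +kernel
theorem c_uB : chkM full [2] [28] false [[[28], [4], [2, 3]]] = true := by decide +kernel
theorem c_uC : chkM full [4] [45] false [[[22]]] = true := by decide +kernel
theorem c_uD : chkM full [6] [45] false [[[22]]] = true := by decide +kernel
theorem c_uE : chkM full [8] [45] false [[[22]]] = true := by decide +kernel

theorem wimg_E : ∀ k : Fin 16,
    [wimg (wd k) 44, wimg (wd k) 47] ∈ [[28, 30], [36, 42], [40, 46], [44, 47]] ∨
      (wimg (wd k) 44 < 24 ∧ wimg (wd k) 47 < 24) := by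
  decide +kernel

theorem roots_E : (44 : ℕ) < chevF4.nroots ∧ 47 < chevF4.nroots ∧ 24 < chevF4.nroots := by
  decide +kernel

variable {K : Type u} [Field K] [CharP K 2] {m : ℕ}

theorem pval_perm (ρ : ℕ → K) {a b : List (List ℕ)} (h : a.Perm b) :
    CE.pval ρ a = CE.pval ρ b := by
  unfold CE.pval
  exact (h.map _).sum_eq

theorem one_supp (j : ℕ) (s : K) : ∀ i < 12, i ∉ [j] → one j s i = 0 :=
  fun i _ hn => by simp [one, show i ≠ j by simpa using hn]

theorem yA_zero' : yA m (0 : K) = 1 := by simp [yA, W2, X, xG_zero]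

theorem yB_zero' : yB m (0 : K) 0 = 1 := by simp [yB, W4, X, xG_zero]

theorem P_one_eight (s : K) : P m (one 8 s) =
    nW [0, 1, 0] * yB m 0 s * (nW [0, 1, 0] : GL chevF4.Idx K)⁻¹ := by
  rw [pieces]
  simp [one, yA_zero', yB_zero']

theorem P_two_roots (s : K) :
    P m (one 2 s) = wordG hD [(28, s), (30, th K m s * th K m s)] ∧
    P m (one 4 s) = wordG hD [(36, s), (42, th K m s * th K m s)] ∧
    P m (one 6 s) = wordG hD [(40, s), (46, th K m s * th K m s)] ∧
    P m (one 8 s) = wordG hD [(44, s), (47, th K m s * th K m s)] := by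
  refine ⟨?_, ?_, ?_, ?_⟩ <;> simp [P, valsF, one, ordL, wordG, xG_zero]

variable [Fintype K] (hK : Fintype.card K = 2 ^ (2 * m + 1))
include hK

theorem P_comm {S S' : List ℕ} (h : chkComm S S' = true) {v v' : ℕ → K} (hv : Supp S v)
    (hv' : Supp S' v') : P m v * P m v' = P m v' * P m v := by
  simp only [chkComm, Bool.and_eq_true, List.all_eq_true, List.isPerm_iff] at h
  have hm := isTheta hK
  obtain ⟨z, hz⟩ := exists_P hK (mul_mem (P_mem hm v) (P_mem hm v'))
  have e : wordC hD (env m v v') (pS S 0 ++ pS S' 24) = P m z := by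
    rw [wordC_append, wordC_pS S hv, wordC_pS24 S' hv', hz]
  have e2 : wordC hD (env m v v') (pS S' 24 ++ pS S 0) = P m z := by
    refine eq_P_of_coef h.1.2 fun r hr => ?_
    rw [← pval_perm _ (h.2 r hr), coef_eq h.1.1 e r hr]
  rw [wordC_append, wordC_pS S hv, wordC_pS24 S' hv'] at e2
  rw [hz, e2]

theorem E_central {x : GL chevF4.Idx K} (hx : x ∈ U1 K m) (s : K) :
    x * P m (one 8 s) = P m (one 8 s) * x := by
  obtain ⟨v, rfl⟩ := exists_P hK hx
  exact P_comm hK c_cent_e (Supp.all v) (one_supp 8 s)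

theorem torus_E {h : GL chevF4.Idx K} (hh : h ∈ T1 K m) {s : K} (hs : s ≠ 0) :
    ∃ t : K, t ≠ 0 ∧ h * P m (one 8 s) * h⁻¹ = P m (one 8 t) := by
  obtain ⟨h', ⟨p, rfl⟩, e⟩ := torus_nW (isTheta hK) hh [0, 1, 0]
  have hp : th K m (p.1 : K) ≠ 0 := fun e => p.1.ne_zero ((map_eq_zero (th K m)).1 e)
  refine ⟨((p.2 : K) / ((p.1 : K) * th K m p.1)) * s,
    mul_ne_zero (div_ne_zero p.2.ne_zero (mul_ne_zero p.1.ne_zero hp)) hs, ?_⟩
  have ec := tor_conj_yB (isTheta hK) p 0 s
  rw [mul_zero] at ec
  rw [P_one_eight, P_one_eight, ← ec]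
  calc h * (nW [0, 1, 0] * yB m 0 s * (nW [0, 1, 0] : GL chevF4.Idx K)⁻¹) * h⁻¹
      = (h * nW [0, 1, 0]) * yB m 0 s * (h * nW [0, 1, 0])⁻¹ := by group
    _ = _ := by rw [e]; group

theorem nW_E (k : Fin 16) (s : K) (hs : s ≠ 0)
    (hU : nW (wd k) * P m (one 8 s) * (nW (wd k) : GL chevF4.Idx K)⁻¹ ∈ U1 K m) :
    ∃ j ∈ [2, 4, 6, 8],
      nW (wd k) * P m (one 8 s) * (nW (wd k) : GL chevF4.Idx K)⁻¹ = P m (one j s) := by
  have e : nW (wd k) * P m (one 8 s) * (nW (wd k) : GL chevF4.Idx K)⁻¹ =
      wordG hD [(wimg (wd k) 44, s), (wimg (wd k) 47, th K m s * th K m s)] := by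
    rw [mul_inv_eq_iff_eq_mul, (P_two_roots s).2.2.2, nW_word]
    · rfl
    · intro p hp
      simp only [List.mem_cons, List.not_mem_nil, or_false] at hp
      rcases hp with rfl | rfl
      · exact roots_E.1
      · exact roots_E.2.1
  obtain ⟨p2, p4, p6, p8⟩ := P_two_roots (m := m) s
  rcases wimg_E k with h | ⟨h1, h2⟩
  · simp only [List.mem_cons, List.cons.injEq, and_true, List.not_mem_nil, or_false] at h
    rcases h with ⟨a, b⟩ | ⟨a, b⟩ | ⟨a, b⟩ | ⟨a, b⟩
    · exact ⟨2, by simp, by rw [e, a, b, p2]⟩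
    · exact ⟨4, by simp, by rw [e, a, b, p4]⟩
    · exact ⟨6, by simp, by rw [e, a, b, p6]⟩
    · exact ⟨8, by simp, by rw [e, a, b, p8]⟩
  exfalso
  have hN : wordG hD [(wimg (wd k) 44, s), (wimg (wd k) 47, th K m s * th K m s)] ∈
      chevF4.negUnipotent K := by
    refine wordG_mem hD fun p hp => ?_
    simp only [List.mem_cons, List.not_mem_nil, or_false] at hp
    rcases hp with rfl | rfl
    · exact mem_negUnipotent_of hD (h1.trans roots_E.2.2) (by rw [half_eq]; exact h1) _
    · exact mem_negUnipotent_of hD (h2.trans roots_E.2.2) (by rw [half_eq]; exact h2) _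
  rw [← e] at hN
  have hb := (borel_inf_negUnipotent hD).le ⟨Subgroup.mem_sup_left hU.1, hN⟩
  rw [Subgroup.mem_bot, conj_eq_one_iff, ← P_zero] at hb
  exact hs (by simpa [one] using P_inj hb 8 (by omega))

/-- No conjugate of a long root element is a short root element. -/
theorem not_rel_EH : ¬ Rel m (P m (one 8 (1 : K))) (P m (one 11 1)) := by
  rintro ⟨g, hg, hgE⟩
  have hm := isTheta hK
  obtain ⟨u, hu, h, hh, k, x, hx, rfl⟩ := exists_nf (G1_le_fx hm hg)
  have hcx := E_central hK (fm_le_U1 _ hx) (1 : K)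
  obtain ⟨h', hh', eh⟩ := torus_nW hm hh (wd k)
  obtain ⟨t, ht, het⟩ := torus_E hK hh' (one_ne_zero (α := K))
  set Z := nW (wd k) * P m (one 8 t) * (nW (wd k) : GL chevF4.Idx K)⁻¹ with hZ
  have e1 : u * Z * u⁻¹ = P m (one 11 1) := by
    rw [← hgE, hZ, ← het]
    calc u * (nW (wd k) * (h' * P m (one 8 1) * h'⁻¹) * (nW (wd k) : GL chevF4.Idx K)⁻¹) * u⁻¹
        = u * (nW (wd k) * h') * P m (one 8 1) * (nW (wd k) * h')⁻¹ * u⁻¹ := by group
      _ = u * (h * nW (wd k)) * (P m (one 8 1) * x) * x⁻¹ * (h * nW (wd k))⁻¹ * u⁻¹ := by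
          rw [eh]; group
      _ = _ := by rw [← hcx]; group
  have hZU : Z ∈ U1 K m := by
    rw [show Z = u⁻¹ * P m (one 11 1) * u by rw [← e1]; group]
    exact mul_mem (mul_mem (inv_mem hu) (P_mem hm _)) hu
  obtain ⟨j, hj, eZ⟩ := nW_E hK k t ht hZU
  rw [← hZ] at eZ
  obtain ⟨v, rfl⟩ := exists_P hK hu
  obtain ⟨z, hz⟩ := exists_P hK (mul_mem (P_mem hm v) (P_mem hm (one j t)))
  have e2 : P m (one 11 1) * P m v = P m z := by
    rw [← hz, ← eZ, ← e1]; group
  have hL := c_Hu
  simp only [chkM, Bool.and_eq_true, beq_iff_eq, if_true] at hL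
  have eL : wordC hD (env m v (one 11 1)) (pS [11] 24 ++ pS full 0) = P m z := by
    rw [wordC_append, wordC_pS full (Supp.all v), wordC_pS24 [11] (one_supp 11 1), e2]
  have eR : wordC hD (env m v (one j t)) (pS full 0 ++ pS [j] 24) = P m z := by
    rw [wordC_append, wordC_pS full (Supp.all v), wordC_pS24 [j] (one_supp j t), hz]
  have l28 := coef_eq hL.1 eL 28 (by decide)
  have l45 := coef_eq hL.1 eL 45 (by decide)
  have g28 := rdR_get hL.2 0 (by decide)
  have g45 := rdR_get hL.2 1 (by decide)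
  simp only [List.getD_cons_zero, List.getD_cons_succ] at g28 g45
  rw [g28] at l28
  rw [g45] at l45
  simp [CE.pval, env, one] at l28 l45
  simp only [List.mem_cons, List.not_mem_nil, or_false] at hj
  rcases hj with rfl | rfl | rfl | rfl
  · have hR := c_uB
    simp only [chkM, Bool.and_eq_true, beq_iff_eq, Bool.false_eq_true, if_false] at hR
    have r28 := coef_eq hR.1 eR 28 (by decide)
    have g := rdR_get hR.2 0 (by decide)
    simp only [List.getD_cons_zero] at g
    rw [g] at r28
    simp [CE.pval, env, one] at r28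
    rw [← l28] at r28
    exact ht (by linear_combination r28)
  · have hR := c_uC
    simp only [chkM, Bool.and_eq_true, beq_iff_eq, Bool.false_eq_true, if_false] at hR
    have r45 := coef_eq hR.1 eR 45 (by decide)
    have g := rdR_get hR.2 0 (by decide)
    simp only [List.getD_cons_zero] at g
    rw [g] at r45
    simp [CE.pval, env] at r45
    rw [← r45] at l45
    exact one_ne_zero (α := K) (by linear_combination l45)
  · have hR := c_uD
    simp only [chkM, Bool.and_eq_true, beq_iff_eq, Bool.false_eq_true, if_false] at hR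
    have r45 := coef_eq hR.1 eR 45 (by decide)
    have g := rdR_get hR.2 0 (by decide)
    simp only [List.getD_cons_zero] at g
    rw [g] at r45
    simp [CE.pval, env] at r45
    rw [← r45] at l45
    exact one_ne_zero (α := K) (by linear_combination l45)
  · have hR := c_uE
    simp only [chkM, Bool.and_eq_true, beq_iff_eq, Bool.false_eq_true, if_false] at hR
    have r45 := coef_eq hR.1 eR 45 (by decide)
    have g := rdR_get hR.2 0 (by decide)
    simp only [List.getD_cons_zero] at g
    rw [g] at r45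
    simp [CE.pval, env] at r45
    rw [← r45] at l45
    exact one_ne_zero (α := K) (by linear_combination l45)

omit hK [Fintype K] in
theorem relE_repB : Rel m (P m (one 8 (1 : K))) (repB m) := by
  refine weyl_step c_Waba (one_supp 8 1) fun i hi => ?_
  interval_cases i <;> simp [CE.pval, env, one, coefP, key, ordL, valsF, List.idxOf_cons]

omit hK [Fintype K] in
theorem relH_repA : Rel m (P m (one 11 (1 : K))) (repA m) := by
  refine weyl_step c_Wbab (fun i _ hn => ?_) fun i hi => ?_
  · simp only [List.mem_cons, List.not_mem_nil, or_false, not_or] at hn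
    simp [one, hn.2]
  · interval_cases i <;> simp [CE.pval, env, one, coefP, key, ordL, valsF, List.idxOf_cons]

theorem not_rel_rep : ¬ Rel m (repA (K := K) m) (repB m) := fun h =>
  not_rel_EH hK (relE_repB.trans (h.symm.trans relH_repA.symm))

end ReeF4Invol

end Cfsg.Agent.Chev
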